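import Groth.Agent.Picfga.HilbAff
import Groth.Agent.Picfga.SecGraph
import Groth.Agent.Divis.IdealComap

/-!
# Closed subschemes finite locally free over the base: affine dictionary
-/

set_option autoImplicit false
set_option linter.style.haveILetI false
open CategoryTheory CategoryTheory.Limits AlgebraicGeometry Groth.Agent
universe u

namespace K684.AffDict

/-- The ideal of global sections of an ideal sheaf on an affine scheme. -/
noncomputable abbrev idl {W : Scheme.{u}} [IsAffine W] (I : W.IdealSheafData) : Ideal Γ(W, ⊤) :=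
  I.ideal ⟨⊤, isAffineOpen_top W⟩

theorem idl_le_iff {W : Scheme.{u}} [IsAffine W] {I J : W.IdealSheafData} : idl I ≤ idl J ↔ I ≤ J :=
  Scheme.IdealSheafData.equivOfIsAffine.map_le_map_iff'

theorem idl_mul {W : Scheme.{u}} [IsAffine W] (I J : W.IdealSheafData) : idl (I * J) = idl I * idl J :=
  map_mul Scheme.IdealSheafData.equivOfIsAffine I J

theorem idl_injective {W : Scheme.{u}} [IsAffine W] {I J : W.IdealSheafData} (h : idl I = idl J) : I = J :=
  Scheme.IdealSheafData.equivOfIsAffine.injective h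

theorem exists_idl {W : Scheme.{u}} [IsAffine W] (a : Ideal Γ(W, ⊤)) : ∃ I : W.IdealSheafData, idl I = a :=
  ⟨Scheme.IdealSheafData.equivOfIsAffine.symm a, Scheme.IdealSheafData.equivOfIsAffine.apply_symm_apply a⟩

theorem idl_comap {W W' : Scheme.{u}} [IsAffine W] [IsAffine W'] (I : W.IdealSheafData) (g : W' ⟶ W) :
    idl (I.comap g) = (idl I).map g.appTop.hom :=
  Divis.IdealComap.ideal_comap_top I g

theorem idl_ker {W W' : Scheme.{u}} [IsAffine W] [IsAffine W'] (g : W' ⟶ W) :
    idl g.ker = RingHom.ker g.appTop.hom := by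
  rw [Scheme.ker_of_isAffine]
  exact Scheme.IdealSheafData.equivOfIsAffine.apply_symm_apply _

theorem surjective_appTop {W : Scheme.{u}} [IsAffine W] (I : W.IdealSheafData) :
    Function.Surjective I.subschemeι.appTop.hom :=
  (IsClosedImmersion.isAffine_surjective_of_isAffine I.subschemeι).2

theorem ker_appTop {W : Scheme.{u}} [IsAffine W] (I : W.IdealSheafData) :
    RingHom.ker I.subschemeι.appTop.hom = idl I := by
  have : IsAffine I.subscheme := (IsClosedImmersion.isAffine_surjective_of_isAffine I.subschemeι).1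
  rw [← idl_ker, Scheme.IdealSheafData.ker_subschemeι]

/-- `B / J` is finite projective of rank `d` over `R`. -/
def FinRk {R B : Type u} [CommRing R] [CommRing B] (φ : R →+* B) (d : ℕ) (J : Ideal B) : Prop :=
  letI := φ.toAlgebra
  Module.Finite R (B ⧸ J) ∧ Module.Projective R (B ⧸ J) ∧ ∀ p, Module.rankAtStalk (R := R) (B ⧸ J) p = d

/-- `C` is finite projective of rank `d` over `R`. -/
def FR {R C : Type u} [CommRing R] [CommRing C] (φ : R →+* C) (d : ℕ) : Prop :=
  φ.Finite ∧ φ.Flat ∧ φ.FinitePresentation ∧ ∀ p, φ.finrank p = d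

theorem fr_iff {R C : Type u} [CommRing R] [CommRing C] [Algebra R C] (d : ℕ) :
    FR (algebraMap R C) d ↔ Module.Finite R C ∧ Module.Projective R C ∧
      ∀ p, Module.rankAtStalk (R := R) C p = d := by
  rw [FR, RingHom.finite_algebraMap, RingHom.flat_algebraMap_iff, RingHom.finitePresentation_algebraMap,
    RingHom.finrank_algebraMap]
  constructor
  · rintro ⟨h1, h2, h3, h4⟩
    have : Module.FinitePresentation R C := Module.FinitePresentation.of_finite_of_finitePresentation R C
    exact ⟨h1, Module.Flat.projective_of_finitePresentation, h4⟩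
  · rintro ⟨h1, h2, h3⟩
    have : Module.FinitePresentation R C := Module.finitePresentation_of_projective _ _
    exact ⟨h1, inferInstance, inferInstance, h3⟩

theorem fr_iff' {R C : Type u} [CommRing R] [CommRing C] (φ : R →+* C) (d : ℕ) :
    FR φ d ↔ letI := φ.toAlgebra; Module.Finite R C ∧ Module.Projective R C ∧
      ∀ p, Module.rankAtStalk (R := R) C p = d := by
  letI := φ.toAlgebra
  exact fr_iff d

theorem fr_comp_iff {R B C : Type u} [CommRing R] [CommRing B] [CommRing C] (φ : R →+* B) (σ : B →+* C)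
    (hσ : Function.Surjective σ) (d : ℕ) : FR (σ.comp φ) d ↔ FinRk φ d (RingHom.ker σ) := by
  letI := φ.toAlgebra
  letI := (σ.comp φ).toAlgebra
  let e : (B ⧸ RingHom.ker σ) ≃ₗ[R] C :=
    { RingHom.quotientKerEquivOfSurjective hσ with
      map_smul' := by
        intro r x
        obtain ⟨b, rfl⟩ := Ideal.Quotient.mk_surjective x
        have : r • Ideal.Quotient.mk (RingHom.ker σ) b = Ideal.Quotient.mk (RingHom.ker σ) (φ r * b) := rfl
        rw [this]
        change RingHom.quotientKerEquivOfSurjective hσ (Ideal.Quotient.mk (RingHom.ker σ) (φ r * b)) =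
          r • RingHom.quotientKerEquivOfSurjective hσ (Ideal.Quotient.mk (RingHom.ker σ) b)
        rw [RingHom.quotientKerEquivOfSurjective_apply_mk, RingHom.quotientKerEquivOfSurjective_apply_mk,
          map_mul]
        rfl }
  rw [fr_iff']
  constructor
  · rintro ⟨h1, h2, h3⟩
    refine ⟨Module.Finite.equiv e.symm, Module.Projective.of_equiv e.symm, fun p => ?_⟩
    rw [Module.rankAtStalk_eq_of_equiv e]
    exact h3 p
  · rintro ⟨h1, h2, h3⟩
    refine ⟨Module.Finite.equiv e, Module.Projective.of_equiv e, fun p => ?_⟩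
    rw [← Module.rankAtStalk_eq_of_equiv e]
    exact h3 p

theorem finLocFree_iff_fr {Z T : Scheme.{u}} [IsAffine Z] [IsAffine T] (π : Z ⟶ T) (d : ℕ) :
    Mor2.IsFinLocFreeOfDeg d π ↔ FR π.appTop.hom d := by
  constructor
  · rintro ⟨⟨h1, h2, h3⟩, h4⟩
    refine ⟨π.finite_appTop, π.flat_appTop, π.finitePresentation_appTop, fun p => ?_⟩
    obtain ⟨t, rfl⟩ := T.isoSpec.hom.surjective p
    exact (Picfga.HilbAff.finrank_appTop_eq π t).trans (h4 t)
  · rintro ⟨h1, h2, h3, h4⟩
    have : Mor2.IsFinLocFreeOfDeg d (Spec.map π.appTop) := by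
      refine ⟨⟨(IsFinite.SpecMap_iff _).2 h1, Flat.SpecMap_iff.2 h2,
        (LocallyOfFinitePresentation.SpecMap_iff _).2 h3⟩, fun y => ?_⟩
      rw [Scheme.Hom.finrank_SpecMap_eq_finrank h1 h2]
      exact h4 y
    exact Picfga.HilbPull.isFinLocFreeOfDeg_of_isPullback (Picfga.HilbAff.isPullback_toSpecΓ π) this

theorem finLocFree_iff {W T : Scheme.{u}} [IsAffine W] [IsAffine T] (p : W ⟶ T) (d : ℕ)
    (I : W.IdealSheafData) :
    Mor2.IsFinLocFreeOfDeg d (I.subschemeι ≫ p) ↔ FinRk p.appTop.hom d (idl I) := by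
  have : IsAffine I.subscheme := (IsClosedImmersion.isAffine_surjective_of_isAffine I.subschemeι).1
  rw [finLocFree_iff_fr, Scheme.Hom.comp_appTop, CommRingCat.hom_comp,
    fr_comp_iff _ _ (surjective_appTop I), ker_appTop]

section SpecBase

variable {R : CommRingCat.{u}}

/-- the structure ring map of a scheme over `Spec R`. -/
noncomputable abbrev str {W : Scheme.{u}} (p : W ⟶ Spec R) : R ⟶ Γ(W, ⊤) :=
  (Scheme.ΓSpecIso R).inv ≫ p.appTop

theorem toSpecΓ_str {W : Scheme.{u}} (p : W ⟶ Spec R) : W.toSpecΓ ≫ Spec.map (str p) = p := by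
  rw [str, Spec.map_comp, ← Scheme.toSpecΓ_naturality_assoc, toSpecΓ_SpecMap_ΓSpecIso_inv,
    Category.comp_id]

theorem str_comp {W W' : Scheme.{u}} (g : W' ⟶ W) (p : W ⟶ Spec R) : str (g ≫ p) = str p ≫ g.appTop := by
  rw [str, str, Scheme.Hom.comp_appTop, Category.assoc]

theorem str_naturality {R' : CommRingCat.{u}} {W W' : Scheme.{u}} {p : W ⟶ Spec R} {p' : W' ⟶ Spec R'}
    {γ : R ⟶ R'} {g : W' ⟶ W} (h : g ≫ p = p' ≫ Spec.map γ) : str p ≫ g.appTop = γ ≫ str p' := by
  rw [← str_comp, h, str_comp, str, str, Scheme.ΓSpecIso_inv_naturality_assoc, Category.assoc]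

theorem finLocFree_iff_str {Z : Scheme.{u}} [IsAffine Z] (π : Z ⟶ Spec R) (d : ℕ) :
    Mor2.IsFinLocFreeOfDeg d π ↔ FR (str π).hom d := by
  have key : Mor2.IsFinLocFreeOfDeg d π ↔ Mor2.IsFinLocFreeOfDeg d (Spec.map (str π)) := by
    constructor
    · intro h
      refine Picfga.HilbPull.isFinLocFreeOfDeg_of_isPullback (fst := Z.isoSpec.inv) (g := 𝟙 _) ?_ h
      refine IsPullback.of_horiz_isIso ⟨?_⟩
      rw [Iso.inv_comp_eq, Category.comp_id]
      exact (toSpecΓ_str π).symm
    · intro h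
      refine Picfga.HilbPull.isFinLocFreeOfDeg_of_isPullback (fst := Z.isoSpec.hom) (g := 𝟙 _) ?_ h
      refine IsPullback.of_horiz_isIso ⟨?_⟩
      rw [Category.comp_id]
      exact toSpecΓ_str π
  rw [key]
  constructor
  · rintro ⟨⟨h1, h2, h3⟩, h4⟩
    have h1' := (IsFinite.SpecMap_iff _).1 h1
    have h2' := Flat.SpecMap_iff.1 h2
    refine ⟨h1', h2', (LocallyOfFinitePresentation.SpecMap_iff _).1 h3, fun p => ?_⟩
    have := h4 p
    rw [Scheme.Hom.finrank_SpecMap_eq_finrank h1' h2'] at this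
    exact this
  · rintro ⟨h1, h2, h3, h4⟩
    refine ⟨⟨(IsFinite.SpecMap_iff _).2 h1, Flat.SpecMap_iff.2 h2,
        (LocallyOfFinitePresentation.SpecMap_iff _).2 h3⟩, fun y => ?_⟩
    rw [Scheme.Hom.finrank_SpecMap_eq_finrank h1 h2]
    exact h4 y

theorem finLocFree_iff' {W : Scheme.{u}} [IsAffine W] (p : W ⟶ Spec R) (d : ℕ) (I : W.IdealSheafData) :
    Mor2.IsFinLocFreeOfDeg d (I.subschemeι ≫ p) ↔ FinRk (str p).hom d (idl I) := by
  have : IsAffine I.subscheme := (IsClosedImmersion.isAffine_surjective_of_isAffine I.subschemeι).1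
  rw [finLocFree_iff_str, str_comp, CommRingCat.hom_comp, fr_comp_iff _ _ (surjective_appTop I), ker_appTop]

theorem isPushout_str {R' : CommRingCat.{u}} {W W' : Scheme.{u}} [IsAffine W] [IsAffine W']
    {p : W ⟶ Spec R} {p' : W' ⟶ Spec R'}
    {γ : R ⟶ R'} {g : W' ⟶ W} (h : IsPullback g p' p (Spec.map γ)) :
    IsPushout (str p) γ g.appTop (str p') := by
  have h1 := isPushout_appTop_of_isPullback h
  refine IsPushout.of_iso h1 (Scheme.ΓSpecIso R) (Iso.refl _) (Scheme.ΓSpecIso R') (Iso.refl _) ?_ ?_ ?_ ?_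
  · rw [Iso.refl_hom, Category.comp_id, str, Iso.hom_inv_id_assoc]
  · exact Scheme.ΓSpecIso_naturality γ
  · rw [Iso.refl_hom, Category.comp_id, Iso.refl_hom, Category.id_comp]
  · rw [Iso.refl_hom, Category.comp_id, str, Iso.hom_inv_id_assoc]

end SpecBase

end K684.AffDict
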