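import Groth.Agent.Picfga.HilbAff

/-!
# Charts of the Hilbert functor of points are of finite type
-/

set_option autoImplicit false
set_option backward.isDefEq.respectTransparency false

universe u

open CategoryTheory CategoryTheory.Limits AlgebraicGeometry Opposite MvPolynomial

namespace K684.ChartFT

open Groth.Agent Groth.Agent.Picfga Groth.Agent.Picfga.HilbPull Groth.Agent.Picfga.HilbTriple
  Groth.Agent.Picfga.HilbChartAlg
  Groth.Agent.Picfga.HilbBas Groth.Agent.Picfga.HilbZar Groth.Agent.Picfga.OverRep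

section Alg

variable (R : Type u) {A : Type u} [CommRing R] [CommRing A] [Algebra R A] {d : ℕ} (w : Fin d → A)

theorem finiteType_P [h : Algebra.FiniteType R A] : Algebra.FiniteType R (HilbChartAlg.P R w) := by
  classical
  obtain ⟨s, hs⟩ := h.out
  let S : Set (HilbChartAlg.P R w) :=
    (fun p : A × Fin d => phi R w p.1 p.2) '' ((s : Set A) ×ˢ Set.univ) ∪
    (Set.range (fun p : Fin d × Fin d × Fin d => phi R w (w p.1 * w p.2.1) p.2.2) ∪
    Set.range (fun k : Fin d => phi R w 1 k))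
  have hSfin : S.Finite := ((s.finite_toSet.prod Set.finite_univ).image _).union
    ((Set.finite_range _).union (Set.finite_range _))
  have h1 : ∀ a ∈ s, ∀ k, phi R w a k ∈ Algebra.adjoin R S := fun a ha k =>
    Algebra.subset_adjoin (Or.inl ⟨(a, k), ⟨ha, trivial⟩, rfl⟩)
  have h2 : ∀ i j k, phi R w (w i * w j) k ∈ Algebra.adjoin R S := fun i j k =>
    Algebra.subset_adjoin (Or.inr (Or.inl ⟨(i, j, k), rfl⟩))
  have h3 : ∀ k, phi R w 1 k ∈ Algebra.adjoin R S := fun k =>
    Algebra.subset_adjoin (Or.inr (Or.inr ⟨k, rfl⟩))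
  have key : ∀ a : A, ∀ b : A, (∀ k, phi R w b k ∈ Algebra.adjoin R S) →
      ∀ k, phi R w (a * b) k ∈ Algebra.adjoin R S := by
    intro a
    have ha : a ∈ Algebra.adjoin R (s : Set A) := by rw [hs]; trivial
    induction ha using Algebra.adjoin_induction with
    | mem x hx =>
      intro b hb k
      rw [(isCoord_phi R w).map_mul']
      exact Subalgebra.sum_mem _ fun i _ => Subalgebra.sum_mem _ fun j _ =>
        Subalgebra.mul_mem _ (Subalgebra.mul_mem _ (h1 x hx i) (hb j)) (h2 i j k)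
    | algebraMap r =>
      intro b hb k
      rw [← Algebra.smul_def, map_smul, Pi.smul_apply]
      exact Subalgebra.smul_mem _ (hb k) r
    | add x y _ _ hx hy =>
      intro b hb k
      rw [add_mul, map_add, Pi.add_apply]
      exact Subalgebra.add_mem _ (hx b hb k) (hy b hb k)
    | mul x y _ _ hx hy =>
      intro b hb k
      rw [mul_assoc]
      exact hx _ (hy b hb) k
  have key2 : ∀ a k, phi R w a k ∈ Algebra.adjoin R S := by
    intro a k
    have := key a 1 h3 k
    rwa [mul_one] at this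
  have htop : Algebra.adjoin R S = ⊤ := by
    rw [eq_top_iff]
    rintro x -
    obtain ⟨p, rfl⟩ := Ideal.Quotient.mk_surjective x
    induction p using MvPolynomial.induction_on with
    | C r => exact Subalgebra.algebraMap_mem _ r
    | add p q hp hq => rw [map_add]; exact Subalgebra.add_mem _ hp hq
    | mul_X p i hp =>
      rw [map_mul]
      exact Subalgebra.mul_mem _ hp (key2 i.1 i.2)
  exact ⟨Subalgebra.fg_def.2 ⟨S, hSfin, htop⟩⟩

end Alg

section Copy

/-- **The universal chart.** -/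
theorem exists_chart {R A : CommRingCat.{u}} (α : R ⟶ A) {d : ℕ} (w : Fin d → A) :
    ∃ (P Q : CommRingCat.{u}) (p : R ⟶ P) (β : P ⟶ Q) (ρ : A ⟶ Q),
      (α.hom.FiniteType → p.hom.FiniteType) ∧ α ≫ ρ = p ≫ β ∧
      RBas β.hom (fun i => ρ.hom (w i)) ∧
      ∀ (B Q' : CommRingCat.{u}) (b : R ⟶ B) (β' : B ⟶ Q') (ρ' : A ⟶ Q'), α ≫ ρ' = b ≫ β' →
        RBas β'.hom (fun i => ρ'.hom (w i)) →
        ∃ (h : P ⟶ B) (k : Q ⟶ Q'), p ≫ h = b ∧ β ≫ k = h ≫ β' ∧ ρ ≫ k = ρ' ∧
          ∀ (h' : P ⟶ B) (k' : Q ⟶ Q'), p ≫ h' = b → β ≫ k' = h' ≫ β' → ρ ≫ k' = ρ' → h' = h := by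
  algebraize [α.hom]
  refine ⟨.of (HilbChartAlg.P R w), .of (HilbChartAlg.Q R w), CommRingCat.ofHom (algebraMap R _),
    CommRingCat.ofHom (algebraMap (HilbChartAlg.P R w) (HilbChartAlg.Q R w)),
    CommRingCat.ofHom (rho R w).toRingHom, ?_, ?_, ?_, ?_⟩
  · intro h
    have h' : Algebra.FiniteType R A := h
    exact RingHom.finiteType_algebraMap.2 (finiteType_P R w)
  · ext x
    exact (rho R w).commutes x
  · exact (rBas_iff _).2 (bas_rho R w)
  · intro B Q' b β' ρ' hcomm hbas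
    algebraize [b.hom, β'.hom, (b ≫ β').hom]
    have : IsScalarTower R B Q' := .of_algebraMap_eq (fun x => rfl)
    let ρa : A →ₐ[R] Q' := { toRingHom := ρ'.hom, commutes' := fun x => congr($(hcomm).hom x) }
    have hb : Bas B (fun i => ρa (w i)) := (rBas_iff _).1 hbas
    refine ⟨CommRingCat.ofHom (cls ρa hb).toRingHom, CommRingCat.ofHom (clsQ ρa hb).toRingHom,
      ?_, ?_, ?_, ?_⟩
    · ext x
      exact (cls ρa hb).commutes x
    · refine CommRingCat.hom_ext (RingHom.ext fun x => ?_)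
      exact clsQ_algebraMap ρa hb x
    · refine CommRingCat.hom_ext (RingHom.ext fun x => ?_)
      exact clsQ_rho ρa hb x
    · intro h' k' h1 h2 h3
      let h'a : HilbChartAlg.P R w →ₐ[R] B :=
        { toRingHom := h'.hom, commutes' := fun x => congr($(h1).hom x) }
      have := cls_unique ρa hb h'a k'.hom (fun x => congr($(h2).hom x)) (fun x => congr($(h3).hom x))
      refine CommRingCat.hom_ext (RingHom.ext fun x => ?_)
      exact congr($(this) x)

end Copy

section Sch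

open HilbChartSch

variable {X S : Scheme.{u}} [IsAffine X] [IsAffine S] (f : X ⟶ S) {d : ℕ}

/-- **Universal chart**, scheme version. -/
theorem exists_chart_scheme (w : Fin d → Γ(X, ⊤)) :
    ∃ (H Z : Scheme.{u}) (_ : IsAffine H) (_ : IsAffine Z) (p : H ⟶ S) (π : Z ⟶ H) (q : Z ⟶ X),
      (LocallyOfFiniteType f → LocallyOfFiniteType p) ∧ q ≫ f = π ≫ p ∧ RBas π.appTop.hom (fun i => q.appTop.hom (w i)) ∧
      ∀ (T Z' : Scheme.{u}) [IsAffine T] [IsAffine Z'] (t : T ⟶ S) (π' : Z' ⟶ T) (q' : Z' ⟶ X),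
        q' ≫ f = π' ≫ t → RBas π'.appTop.hom (fun i => q'.appTop.hom (w i)) →
        ∃ (g : T ⟶ H) (m : Z' ⟶ Z), g ≫ p = t ∧ m ≫ π = π' ≫ g ∧ m ≫ q = q' ∧
          IsPullback m π' π g ∧
          ∀ (g' : T ⟶ H) (m' : Z' ⟶ Z), g' ≫ p = t → m' ≫ π = π' ≫ g' → m' ≫ q = q' → g' = g := by
  obtain ⟨P, Q, p, β, ρ, hft, hcomm, hbas, huniv⟩ := exists_chart f.appTop w
  refine ⟨Spec P, Spec Q, inferInstance, inferInstance, Spec.map p ≫ S.isoSpec.inv, Spec.map β,
    Spec.map ρ ≫ X.isoSpec.inv, ?_, ?_, ?_, ?_⟩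
  · intro hf
    have h1 : f.appTop.hom.FiniteType := (HasRingHomProperty.iff_of_isAffine (P := @LocallyOfFiniteType)).1 hf
    have h2 : LocallyOfFiniteType (Spec.map p) :=
      (HasRingHomProperty.Spec_iff (P := @LocallyOfFiniteType)).2 (hft h1)
    infer_instance
  · rw [Category.assoc, ← Scheme.isoSpec_inv_naturality, ← Spec.map_comp_assoc,
      ← Spec.map_comp_assoc, hcomm]
  · have h1 := rBas_comp_iso _ _ (Scheme.ΓSpecIso Q).inv hbas
    have h2 := rBas_iso_comp _ _ (Scheme.ΓSpecIso P).hom h1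
    have e1 : (Spec.map β).appTop = (Scheme.ΓSpecIso P).hom ≫ β ≫ (Scheme.ΓSpecIso Q).inv := by
      rw [← Scheme.ΓSpecIso_naturality_assoc, Iso.hom_inv_id, Category.comp_id]
    have e2 : (Spec.map ρ ≫ X.isoSpec.inv).appTop = ρ ≫ (Scheme.ΓSpecIso Q).inv := by
      rw [Scheme.Hom.comp_appTop]
      have : X.isoSpec.inv.appTop = (Scheme.ΓSpecIso Γ(X, ⊤)).inv := by
        rw [← cancel_mono (Scheme.ΓSpecIso Γ(X, ⊤)).hom, ← Scheme.toSpecΓ_appTop,
          ← Scheme.Hom.comp_appTop, Scheme.toSpecΓ_isoSpec_inv]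
        simp
      rw [this, ← cancel_mono (Scheme.ΓSpecIso Q).hom, Category.assoc,
        Scheme.ΓSpecIso_naturality]
      simp
    rw [e1, e2]
    exact h2
  · intro T Z' _ _ t π' q' hq hb
    obtain ⟨h, k, hk1, hk2, hk3, hk4⟩ := huniv Γ(T, ⊤) Γ(Z', ⊤) t.appTop π'.appTop q'.appTop
      (by rw [← Scheme.Hom.comp_appTop, ← Scheme.Hom.comp_appTop, hq]) hb
    have hpo : IsPushout β h k π'.appTop := isPushout_of_rBas _ hk2 hbas (by
      have : ∀ i, k.hom (ρ.hom (w i)) = q'.appTop.hom (w i) := fun i => congr($(hk3).hom (w i))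
      simp only [this]
      exact hb)
    refine ⟨T.toSpecΓ ≫ Spec.map h, Z'.toSpecΓ ≫ Spec.map k, ?_, ?_, ?_, ?_, ?_⟩
    · rw [Category.assoc, ← Spec.map_comp_assoc, hk1, ← Scheme.toSpecΓ_naturality_assoc,
        Scheme.toSpecΓ_isoSpec_inv, Category.comp_id]
    · rw [Category.assoc, ← Spec.map_comp, hk2, Spec.map_comp, ← Category.assoc,
        ← Scheme.toSpecΓ_naturality, Category.assoc]
    · rw [Category.assoc, ← Spec.map_comp_assoc, hk3, ← Scheme.toSpecΓ_naturality_assoc,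
        Scheme.toSpecΓ_isoSpec_inv, Category.comp_id]
    · have h1 := isPullback_SpecMap_of_isPushout _ _ _ _ hpo
      have h2 : IsPullback Z'.toSpecΓ π' (Spec.map π'.appTop) T.toSpecΓ :=
        IsPullback.of_horiz_isIso ⟨(Scheme.toSpecΓ_naturality π').symm⟩
      exact h2.paste_horiz h1
    · intro g' m' hg1 hg2 hg3
      obtain ⟨h', rfl⟩ := exists_toSpecΓ g'
      obtain ⟨k', rfl⟩ := exists_toSpecΓ m'
      rw [hk4 h' k' ?_ ?_ ?_]
      · apply toSpecΓ_injective (T := T)
        rw [← cancel_mono S.isoSpec.inv, Category.assoc, Category.assoc,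
          ← Scheme.toSpecΓ_naturality_assoc, Scheme.toSpecΓ_isoSpec_inv, Category.comp_id,
          Spec.map_comp, Category.assoc]
        exact hg1
      · apply toSpecΓ_injective (T := Z')
        rw [Spec.map_comp, ← Category.assoc, hg2, Spec.map_comp, ← Category.assoc,
          ← Category.assoc, Scheme.toSpecΓ_naturality]
      · apply toSpecΓ_injective (T := Z')
        rw [← cancel_mono X.isoSpec.inv, Category.assoc, Category.assoc,
          ← Scheme.toSpecΓ_naturality_assoc, Scheme.toSpecΓ_isoSpec_inv, Category.comp_id,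
          Spec.map_comp, Category.assoc]
        exact hg3

set_option maxHeartbeats 1000000 in
/-- **Charts of the Hilbert functor**, affine case. -/
theorem exists_hilb_chart (w : Fin d → Γ(X, ⊤)) :
    ∃ (H : Over S) (_ : IsAffine H.left) (ξ : HilbD.Obj f d H),
      (LocallyOfFiniteType f → LocallyOfFiniteType H.hom) ∧
      (∀ (T : Over S) [IsAffine T.left] (k : T ⟶ H), HilbAff.BasOn f w (pullObj f k ξ)) ∧
      (∀ (T : Over S) [IsAffine T.left] (x : HilbD.Obj f d T), HilbAff.BasOn f w x →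
        ∃ k : T ⟶ H, pullObj f k ξ = x) ∧
      (∀ (T : Over S) (a b : T ⟶ H), pullObj f a ξ = pullObj f b ξ → a = b) := by
  obtain ⟨H, Z, _, _, p, π, q, hft, hcomm, hbas, huniv⟩ :=
    exists_chart_scheme f w
  have hH : IsAffine (Over.mk p : Over S).left := ‹IsAffine H›
  have hcl : IsClosedImmersion (toXT f (T := Over.mk p) π q hcomm) :=
    HilbAff.isClosedImmersion_toXT f (T := Over.mk p) π q hcomm w hbas
  have hdeg : Mor2.IsFinLocFreeOfDeg d π := HilbAff.isFinLocFreeOfDeg_of_rBas π _ hbas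
  have key : ∀ (T : Over S) [IsAffine T.left] (k : T ⟶ Over.mk p) (x : HilbD.Obj f d T),
      pullObj f k (ofTriple f (T := Over.mk p) π q hcomm hdeg) = x → HilbAff.BasOn f w x := by
    intro T _ k x hx
    obtain ⟨m, hm, hq⟩ := (pullObj_ofTriple_eq_iff f k π q hcomm hdeg _).1 hx
    have hpo := isPushout_appTop_of_isPullback hm.flip
    have h1 := rBas_of_isPushout _ hpo.flip hbas
    rw [HilbAff.BasOn, ← hq]
    exact h1
  refine ⟨Over.mk p, hH, ofTriple f (T := Over.mk p) π q hcomm hdeg, hft, ?_, ?_, ?_⟩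
  · intro T _ k
    exact key T k _ rfl
  · intro T _ x hx
    have : IsAffine x.1.subscheme := HilbAff.isAffine_subscheme f x
    obtain ⟨g, m, h1, h2, h3, h4, -⟩ := huniv T.left x.1.subscheme T.hom (pi f x.1) (qq f x.1)
      (qq_comp f x.1) hx
    exact ⟨Over.homMk g h1, (pullObj_ofTriple_eq_iff f (Over.homMk g h1 : T ⟶ Over.mk p) π q hcomm
      hdeg x).2 ⟨m, h4, h3⟩⟩
  · intro T a b hab
    apply hom_ext_local
    intro t
    obtain ⟨U, hU, htU, -⟩ := exists_isAffineOpen_mem_and_subset (X := T.left) (x := t) (U := ⊤)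
      trivial
    refine ⟨U, htU, ?_⟩
    have hUa : IsAffine (Over.mk (U.ι ≫ T.hom)).left := hU
    have hab' : pullObj f (res T U ≫ a) (ofTriple f (T := Over.mk p) π q hcomm hdeg) =
        pullObj f (res T U ≫ b) (ofTriple f (T := Over.mk p) π q hcomm hdeg) := by
      rw [pullObj_comp, pullObj_comp, hab]
    generalize res T U ≫ a = a' at hab'
    generalize res T U ≫ b = b' at hab'
    obtain ⟨x, hx⟩ : ∃ x, x = pullObj f b' (ofTriple f (T := Over.mk p) π q hcomm hdeg) := ⟨_, rfl⟩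
    obtain ⟨m₁, hm₁, hq₁⟩ := (pullObj_ofTriple_eq_iff f a' π q hcomm hdeg x).1 (hab'.trans hx.symm)
    obtain ⟨m₂, hm₂, hq₂⟩ := (pullObj_ofTriple_eq_iff f b' π q hcomm hdeg x).1 hx.symm
    have : IsAffine x.1.subscheme := HilbAff.isAffine_subscheme f x
    obtain ⟨g, m, -, -, -, -, h5⟩ := huniv _ x.1.subscheme (Over.mk (U.ι ≫ T.hom)).hom
      (pi f x.1) (qq f x.1) (qq_comp f x.1) (key _ b' x hx.symm)
    ext
    rw [h5 a'.left m₁ (Over.w a') hm₁.w hq₁, h5 b'.left m₂ (Over.w b') hm₂.w hq₂]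


end Sch

end K684.ChartFT
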