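import Groth.Agent.HilbD.K684.NestPush
import Groth.Agent.CalgB.AmpleProj
import Groth.Agent.CalgB.AmpleBase
import Groth.Agent.Ega2.FiniteSet
import Groth.Agent.Dix.ProjProper

/-!
# Finite sets of points of quasi-projective schemes
-/

set_option autoImplicit false
open CategoryTheory CategoryTheory.Limits AlgebraicGeometry Groth.Agent
universe u

namespace K684.FAProj

/-- A finite set of points of a scheme quasi-compactly immersed in projective space lies in an affine open. -/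
theorem fa {S : Scheme.{u}} [IsAffine S] {X : Scheme.{u}} {n : ℕ} (e : X ⟶ CohB1.ProjSpaceOver n S) [IsImmersion e]
    [QuasiCompact e] : NestPush.FA X := by
  intro T hT
  obtain ⟨E, hE⟩ := Groth.Agent.CalgB.AmpleProj.exists_isRelAmple_projSpaceOver n S
  have h1 := hE.2 ⟨⊤, isAffineOpen_top S⟩
  have h2 := Groth.Agent.CalgB.AmpleBase.isAmple_pullback_of_isImmersion
    (e ∣_ (CohB1.ProjSpaceOver.toBase n S ⁻¹ᵁ ⊤)) h1
  set P := e ⁻¹ᵁ (CohB1.ProjSpaceOver.toBase n S ⁻¹ᵁ ⊤) with hP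
  obtain ⟨m, s, hs1, -, hs3⟩ := Groth.Agent.Ega2.FiniteSet.exists_affine_genLocus_of_finite h2 (P.ι ⁻¹' T)
    (hT.preimage P.ι.isOpenEmbedding.injective.injOn) ⊤ (Set.subset_univ _)
  refine ⟨P.ι ''ᵁ (CohB1.genLocus _ s), hs3.image_of_isOpenImmersion _, ?_⟩
  intro x hx
  exact ⟨⟨x, trivial⟩, hs1 hx, rfl⟩

end K684.FAProj
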