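import Groth.Agent.HilbD.K684.NVPos
import Groth.Agent.HilbD.K684.FAProj

/-!
# Connectedness of Hilbert schemes of points
-/

set_option autoImplicit false
set_option linter.style.haveILetI false
set_option linter.unusedSectionVars false
open CategoryTheory CategoryTheory.Limits AlgebraicGeometry Groth.Agent
universe u

namespace K684.Conn

open NestAff NestPush NestTop Picfga.HilbPull Picfga.SecGraph IsLocalRing

variable {k : Type u} [Field k] [IsAlgClosed k] {X : Scheme.{u}} (f : X ⟶ Spec (.of k)) [IsSeparated f]
  [LocallyOfFiniteType f] (hFA : FA X)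

omit [IsAlgClosed k] [IsSeparated f] [LocallyOfFiniteType f] in
include hFA in
theorem exists_affine (d : ℕ) (s : Spec (.of k)) (x : Fin d → X) (_ : ∀ i, f (x i) = s) :
    ∃ U : X.Opens, IsAffineOpen U ∧ ∀ i, x i ∈ U := by
  obtain ⟨U, hU, hs⟩ := hFA (Set.range x) (Set.finite_range x)
  exact ⟨U, hU, fun i => hs ⟨i, rfl⟩⟩

include hFA in
/-- Connectedness of the Hilbert scheme of `n` points if no subscheme of length `< n` is everything near a point. -/
theorem connected_of_nv [ConnectedSpace X] (n : ℕ) (hNV : ∀ m < n, NV f m) (H : Over (Spec (.of k)))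
    (Z : HilbD.Obj f n H) (hZ : HilbD.IsUniversal f n H Z) : ConnectedSpace H.left := by
  induction n generalizing H with
  | zero =>
    have := Picfga.HilbZero.isIso_hom_of_isUniversal_zero f hZ
    exact (H.hom.homeomorph.connectedSpace_iff).2 (inferInstanceAs (ConnectedSpace (PrimeSpectrum k)))
  | succ n ih =>
    obtain ⟨H₀, Z₀, hZ₀⟩ := Picfga.HilbSep.representable_of_isSeparated f n (exists_affine f hFA n)
    have h1 : ConnectedSpace H₀.left := ih (fun m hm => hNV m (by omega)) H₀ Z₀ hZ₀
    have h2 : LocallyOfFiniteType H₀.hom := HilbLFT.lft f hZ₀ (exists_affine f hFA n)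
    have h3 : LocallyOfFiniteType H.hom := HilbLFT.lft f hZ (exists_affine f hFA (n + 1))
    have h4 : GeometricallyConnected f := Groth.Agent.S2501.result f
    have h5 : ConnectedSpace (PicF.XT f H₀) := inferInstanceAs (ConnectedSpace ↥(pullback f H₀.hom))
    exact connected_succ f hFA hZ₀ hZ (hNV n (by omega))

end K684.Conn
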