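import Groth.Agent.Picfga.SecGraph

/-!
# The Hilbert functor of one point
-/

set_option autoImplicit false
open CategoryTheory CategoryTheory.Limits AlgebraicGeometry Groth.Agent
universe u

namespace K684.DegOne

theorem isIso_of_deg_one {X Y : Scheme.{u}} (f : X ⟶ Y) (h : Mor2.IsFinLocFreeOfDeg 1 f) : IsIso f := by
  obtain ⟨⟨h1, h2, h3⟩, h4⟩ := h
  rw [Scheme.Hom.isIso_iff_finrank_eq]
  funext y
  exact h4 y

variable {X S : Scheme.{u}} (f : X ⟶ S)

/-- A closed subscheme of `X_T` finite locally free of degree one over `T` is the graph of a section. -/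
theorem exists_secGraph {T : Over S} {I : (PicF.XT f T).IdealSheafData}
    (h : Mor2.IsFinLocFreeOfDeg 1 (I.subschemeι ≫ PicF.XTproj f T)) :
    ∃ (x : T.left ⟶ X) (hx : x ≫ f = T.hom), I = HilbD.secGraph f T x hx := by
  have h1 := isIso_of_deg_one _ h
  let s : T.left ⟶ PicF.XT f T := inv (I.subschemeι ≫ PicF.XTproj f T) ≫ I.subschemeι
  have hs : s ≫ PicF.XTproj f T = 𝟙 _ := by
    simp only [s, Category.assoc]
    exact IsIso.inv_hom_id _
  have hx : (s ≫ pullback.fst f T.hom) ≫ f = T.hom := by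
    rw [Category.assoc, pullback.condition]
    have : s ≫ PicF.XTproj f T ≫ T.hom = T.hom := by
      rw [← Category.assoc, hs, Category.id_comp]
    exact this
  refine ⟨s ≫ pullback.fst f T.hom, hx, ?_⟩
  have hsec : Picfga.SecGraph.sec f T (s ≫ pullback.fst f T.hom) hx = s := by
    apply pullback.hom_ext
    · exact Picfga.SecGraph.sec_fst f _ hx
    · exact (Picfga.SecGraph.sec_proj f _ hx).trans hs.symm
  rw [Picfga.SecGraph.secGraph_eq_ker, hsec]
  have : s.ker = I.subschemeι.ker := by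
    simp only [s]
    exact Scheme.Hom.ker_comp_of_isIso _ _
  rw [this, Scheme.IdealSheafData.ker_subschemeι]

theorem eq_of_secGraph_eq {T : Over S} {x y : T.left ⟶ X} (hx : x ≫ f = T.hom) (hy : y ≫ f = T.hom)
    [IsSeparated f] (h : HilbD.secGraph f T x hx = HilbD.secGraph f T y hy) : x = y := by
  have h1 : (Picfga.SecGraph.sec f T y hy).ker.comap (Picfga.SecGraph.sec f T x hx) = ⊥ :=
    (Picfga.SecGraph.le_secGraph_iff f x hx _).mp h.ge
  obtain ⟨φ, hφ⟩ := Picfga.SecGraph.exists_lift_subscheme _ _ h1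
  obtain ⟨e, he, he'⟩ := Picfga.SecGraph.exists_iso_ker_subscheme (Picfga.SecGraph.sec f T y hy)
  have h2 : (φ ≫ e) ≫ Picfga.SecGraph.sec f T y hy = Picfga.SecGraph.sec f T x hx := by
    rw [Category.assoc, he']
    exact hφ
  have h3 : φ ≫ e = 𝟙 _ := by
    have := congrArg (· ≫ PicF.XTproj f T) h2
    simp only [Category.assoc, Picfga.SecGraph.sec_proj, Category.comp_id] at this
    exact this
  rw [h3, Category.id_comp] at h2
  rw [← Picfga.SecGraph.sec_fst f x hx, ← Picfga.SecGraph.sec_fst f y hy, h2]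

end K684.DegOne
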