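import Groth.Prelude.Def_W4c6dblnestedhilbptsFlags
import Groth.Agent.S1171
import Groth.Agent.S1172
import Groth.Agent.Picfga.HilbZero
import Groth.Agent.Picfga.SecGraph

/-!
# Relative divisors on a smooth morphism of relative dimension one: algebra of ideals
-/

set_option autoImplicit false
open CategoryTheory CategoryTheory.Limits AlgebraicGeometry Groth.Agent
universe u

namespace K684.DivAlg

variable {X S : Scheme.{u}} (f : X ⟶ S) [SmoothOfRelativeDimension 1 f]

include f in
theorem isEff {d : ℕ} {I : X.IdealSheafData} (h : HilbD.IsDivOfDeg f d I) : BlowUp.IsEffCartierIdeal I :=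
  ((S1184.result f I).2 h.1).1

include f in
theorem cancel {d : ℕ} {I J K : X.IdealSheafData} (h : HilbD.IsDivOfDeg f d I) (hJK : I * J = I * K) :
    J = K :=
  Picfga.SecGraph.mul_left_cancel_of_isEffCartier (isEff f h) hJK

omit [SmoothOfRelativeDimension 1 f] in
theorem eq_one_of_zero {I : X.IdealSheafData} (h : HilbD.IsDivOfDeg f 0 I) : I = 1 := by
  have h := Picfga.HilbZero.isEmpty_of_isFinLocFreeOfDeg_zero _ h
  rw [Scheme.IdealSheafData.one_eq_top, ← I.ker_subschemeι, Scheme.Hom.ker_eq_top_iff_isEmpty]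
  exact h

theorem mul {d e : ℕ} {I J : X.IdealSheafData} (hI : HilbD.IsDivOfDeg f d I) (hJ : HilbD.IsDivOfDeg f e J) :
    HilbD.IsDivOfDeg f (d + e) (I * J) :=
  S1171.result f I J d e hI hJ

theorem exists_mul {d e : ℕ} {I J : X.IdealSheafData} (hI : HilbD.IsDivOfDeg f d I) (hJ : HilbD.IsDivOfDeg f e J)
    (h : J ≤ I) : ∃ K, HilbD.IsDivOfDeg f (e - d) K ∧ J = I * K :=
  S1172.result f I J h d e hI hJ

theorem eq_of_le {d : ℕ} {I J : X.IdealSheafData} (hI : HilbD.IsDivOfDeg f d I) (hJ : HilbD.IsDivOfDeg f d J)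
    (h : J ≤ I) : J = I := by
  obtain ⟨K, hK, rfl⟩ := exists_mul f hI hJ h
  rw [Nat.sub_self] at hK
  rw [eq_one_of_zero f hK, mul_one]

omit [SmoothOfRelativeDimension 1 f] in
theorem mul_le_left' (I J : X.IdealSheafData) : I * J ≤ I := fun _ => Ideal.mul_le_left

end K684.DivAlg
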