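import Groth.Prelude.Def_W4c6puncthilbintroLift
import Groth.Agent.Ega43.NilpotentFlat
import Mathlib.RingTheory.Flat.EquationalCriterion
import Mathlib.RingTheory.DualNumber
import Mathlib.LinearAlgebra.TensorProduct.Quotient

/-!
# Flatness over the dual numbers of quotients of `R[ε]`

* `flat_of_ideal`: if `R/I` is flat over `A` and `K ⊆ R[ε]` reduces to `I` and satisfies
  `ε x ∈ K → fst x ∈ I`, then `R[ε]/K` is flat over `A[ε]`.
* `fst_mem_of_flat`: conversely if `R[ε]/K` is flat over `A[ε]` and `K` reduces to `I`, then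
  `ε x ∈ K → fst x ∈ I`.
-/

set_option autoImplicit false
open TensorProduct DualNumber TrivSqZeroExt
universe u

namespace K684.DualFlat

theorem flat_of_equiv {A B P Q : Type*} [CommRing A] [CommRing B] [AddCommGroup P] [AddCommGroup Q] [Module A P]
    [Module B Q] (e : A ≃+* B) (f : P ≃+ Q) (h : ∀ a p, f (a • p) = e a • f p) (hf : Module.Flat B Q) :
    Module.Flat A P := by
  let i1 : Algebra A B := e.toRingHom.toAlgebra
  let i2 : Module A Q := Module.compHom Q e.toRingHom
  have i3 : IsScalarTower A B Q := IsScalarTower.of_algebraMap_smul fun _ _ ↦ rfl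
  let e' : A ≃ₗ[A] B := { e with map_smul' := fun a b ↦ e.map_mul a b }
  have i4 : Module.Flat A B := Module.Flat.of_linearEquiv e'.symm
  have i5 : Module.Flat A Q := Module.Flat.trans A B Q
  let f' : P ≃ₗ[A] Q := { f with map_smul' := fun a b ↦ h a b }
  exact Module.Flat.of_linearEquiv f'

/-- A general criterion over `A[ε]`: `M` is flat as soon as `ε m = 0` implies `m ∈ ε M` and `M / ε M` is flat
over `A`. -/
theorem flat_of_eps {A : Type u} [CommRing A] {M : Type u} [AddCommGroup M] [Module (DualNumber A) M]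
    {N : Type u} [AddCommGroup N] [Module A N] [Module.Flat A N]
    (g : M →+ N) (hg : Function.Surjective g) (hgs : ∀ (b : DualNumber A) (m : M), g (b • m) = b.fst • g m)
    (hker : ∀ m, g m = 0 → ∃ m' : M, m = (ε : DualNumber A) • m')
    (heps : ∀ m : M, (ε : DualNumber A) • m = 0 → g m = 0) :
    Module.Flat (DualNumber A) M := by
  set J : Ideal (DualNumber A) := Ideal.span {(ε : DualNumber A)} with hJdef
  have hJmem : ∀ x ∈ J, ∃ c : DualNumber A, x = c * ε := by
    intro x hx
    obtain ⟨c, hc⟩ := Ideal.mem_span_singleton'.mp hx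
    exact ⟨c, hc.symm⟩
  have hεJ : (ε : DualNumber A) ∈ J := Ideal.mem_span_singleton_self _
  have hJnil : IsNilpotent J := by
    refine ⟨2, ?_⟩
    rw [hJdef, Ideal.span_singleton_pow, DualNumber.eps_pow_two, Ideal.span_singleton_eq_bot.mpr rfl]
    rfl
  have hJfst : ∀ x : DualNumber A, x.fst = 0 → x ∈ J := by
    intro x hx
    obtain ⟨c, hc⟩ := DualNumber.fst_eq_zero_iff_eps_dvd.mp hx
    rw [hc]
    exact J.mul_mem_right _ hεJ
  have hJfst' : ∀ x ∈ J, x.fst = 0 := by
    intro x hx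
    obtain ⟨c, rfl⟩ := hJmem x hx
    simp
  let i1 : Module (DualNumber A) N := Module.compHom N (TrivSqZeroExt.fstHom A A A).toRingHom
  let g' : M →ₗ[DualNumber A] N := { g with map_smul' := fun b m => hgs b m }
  have hker' : LinearMap.ker g' = J • (⊤ : Submodule (DualNumber A) M) := by
    apply le_antisymm
    · intro m hm
      obtain ⟨m', rfl⟩ := hker m hm
      exact Submodule.smul_mem_smul hεJ trivial
    · rw [Submodule.smul_le]
      intro a ha m _
      change g (a • m) = 0
      rw [hgs, hJfst' a ha, zero_smul]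
  let e : ((DualNumber A) ⧸ J) ⊗[DualNumber A] M ≃ₗ[DualNumber A] N :=
    (TensorProduct.quotTensorEquivQuotSMul M J).trans
      ((Submodule.quotEquivOfEq _ _ hker'.symm).trans (g'.quotKerEquivOfSurjective hg))
  let σ : ((DualNumber A) ⧸ J) ≃+* A :=
    (Ideal.quotEquivOfEq (by
      ext x
      rw [RingHom.mem_ker]
      exact ⟨fun h => hJfst' x h, fun h => hJfst x h⟩ :
        J = RingHom.ker (TrivSqZeroExt.fstHom A A A).toRingHom)).trans
      (RingHom.quotientKerEquivOfSurjective (f := (TrivSqZeroExt.fstHom A A A).toRingHom)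
        (fun a => ⟨(inl a : DualNumber A), fst_inl A a⟩))
  have hσ : ∀ b : DualNumber A, σ (Ideal.Quotient.mk J b) = b.fst := fun b => rfl
  have hflat : Module.Flat ((DualNumber A) ⧸ J) (((DualNumber A) ⧸ J) ⊗[DualNumber A] M) := by
    refine flat_of_equiv (A := (DualNumber A) ⧸ J) (B := A) (P := ((DualNumber A) ⧸ J) ⊗[DualNumber A] M)
      (Q := N) σ e.toAddEquiv ?_ (inferInstance : Module.Flat A N)
    intro c z
    obtain ⟨b, rfl⟩ := Ideal.Quotient.mk_surjective c
    rw [hσ]
    have h1 : (Ideal.Quotient.mk J b) • z = b • z := by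
      rw [← algebraMap_smul ((DualNumber A) ⧸ J) b z]
      rfl
    rw [h1]
    exact e.map_smul b z
  refine Groth.Agent.Ega43.NilpotentFlat.flat_of_nilpotent M J hJnil ?_
  have hform : ∀ z : J ⊗[DualNumber A] M, ∃ m : M, z = (⟨ε, hεJ⟩ : J) ⊗ₜ m := by
    intro z
    induction z with
    | zero => exact ⟨0, by simp⟩
    | add x y hx hy =>
      obtain ⟨m, rfl⟩ := hx
      obtain ⟨m', rfl⟩ := hy
      exact ⟨m + m', by rw [tmul_add]⟩
    | tmul j m =>
      obtain ⟨c, hc⟩ := hJmem j j.2
      refine ⟨c • m, ?_⟩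
      rw [← TensorProduct.smul_tmul]
      congr 1
      exact Subtype.ext hc
  rw [injective_iff_map_eq_zero]
  intro z hz
  obtain ⟨m, rfl⟩ := hform z
  rw [LinearMap.rTensor_tmul] at hz
  have h2 := congrArg (TensorProduct.lid (DualNumber A) M) hz
  rw [TensorProduct.lid_tmul, map_zero] at h2
  obtain ⟨m', rfl⟩ := hker m (heps m h2)
  rw [← TensorProduct.smul_tmul]
  have h3 : (ε : DualNumber A) • (⟨ε, hεJ⟩ : J) = 0 := Subtype.ext DualNumber.eps_mul_eps
  rw [h3, zero_tmul]

/-- Over `A[ε]`, in a flat module `ε m = 0` implies `m ∈ ε M`. -/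
theorem exists_of_flat {A : Type u} [CommRing A] {M : Type u} [AddCommGroup M] [Module (DualNumber A) M]
    [Module.Flat (DualNumber A) M] (m : M) (hm : (ε : DualNumber A) • m = 0) :
    ∃ m' : M, m = (ε : DualNumber A) • m' := by
  have h : ∑ i : Fin 1, (fun _ => (ε : DualNumber A)) i • (fun _ => m) i = 0 := by simpa using hm
  obtain ⟨k, a, y, h1, h2⟩ := Module.Flat.isTrivialRelation_of_sum_smul_eq_zero h
  have h3 : ∀ j, ∃ c : DualNumber A, a 0 j = ε * c := by
    intro j
    have := h2 j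
    rw [Fin.sum_univ_one] at this
    apply DualNumber.fst_eq_zero_iff_eps_dvd.mp
    have h4 := congrArg TrivSqZeroExt.snd this
    rw [DualNumber.snd_mul] at h4
    simpa using h4
  choose c hc using h3
  refine ⟨∑ j, c j • y j, ?_⟩
  rw [Finset.smul_sum]
  refine (h1 0).trans (Finset.sum_congr rfl fun j _ => ?_)
  rw [hc, mul_smul]

attribute [local instance] W4c6puncthilbintro.dualAlgebra

variable {A : Type u} [CommRing A] {R : Type u} [CommRing R] [Algebra A R]

theorem fst_smul (b : DualNumber A) (x : DualNumber R) : (b • x).fst = b.fst • x.fst := by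
  rw [Algebra.smul_def]
  change (W4c6puncthilbintro.dualMap A R b * x).fst = _
  rw [TrivSqZeroExt.fst_mul, Algebra.smul_def]
  congr 1
  rw [W4c6puncthilbintro.dualMap, DualNumber.lift_apply_apply]
  simp only [Algebra.ofId_apply, fst_add, fst_mul, DualNumber.fst_eps, mul_zero, add_zero]
  rfl

theorem eps_smul (x : DualNumber R) : (ε : DualNumber A) • x = ε * x := by
  rw [Algebra.smul_def]
  change W4c6puncthilbintro.dualMap A R ε * x = _
  rw [W4c6puncthilbintro.dualMap_eps]

variable (I : Ideal R) (K : Ideal (DualNumber R))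

theorem mem_map_fst_iff (a : R) : a ∈ Ideal.map (TrivSqZeroExt.fstHom A R R) K ↔ ∃ x ∈ K, x.fst = a := by
  have hs : Function.Surjective (TrivSqZeroExt.fstHom A R R) := by
    intro a
    exact ⟨(inl a : DualNumber R), fst_inl R a⟩
  rw [Ideal.mem_map_iff_of_surjective _ hs]
  rfl

theorem flat_of_ideal [Module.Flat A (R ⧸ I)] (hK : Ideal.map (TrivSqZeroExt.fstHom A R R) K = I)
    (h : ∀ x : DualNumber R, ε * x ∈ K → x.fst ∈ I) : Module.Flat (DualNumber A) (DualNumber R ⧸ K) := by
  have hKI : ∀ x ∈ K, x.fst ∈ I := by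
    intro x hx
    rw [← hK, mem_map_fst_iff]
    exact ⟨x, hx, rfl⟩
  let g : (DualNumber R ⧸ K) →+* (R ⧸ I) :=
    Ideal.Quotient.lift K ((Ideal.Quotient.mk I).comp (TrivSqZeroExt.fstHom A R R).toRingHom) (by
      intro x hx
      exact Ideal.Quotient.eq_zero_iff_mem.mpr (hKI x hx))
  have hg : ∀ x, g (Ideal.Quotient.mk K x) = Ideal.Quotient.mk I x.fst := fun x => rfl
  refine flat_of_eps (N := R ⧸ I) g.toAddMonoidHom ?_ ?_ ?_ ?_
  · intro y
    obtain ⟨a, rfl⟩ := Ideal.Quotient.mk_surjective y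
    exact ⟨Ideal.Quotient.mk K (inl a), by simp [hg]⟩
  · intro b m
    obtain ⟨x, rfl⟩ := Ideal.Quotient.mk_surjective m
    change g (Ideal.Quotient.mk K (b • x)) = b.fst • g (Ideal.Quotient.mk K x)
    rw [hg, hg, fst_smul]
    rfl
  · intro m hm
    obtain ⟨x, rfl⟩ := Ideal.Quotient.mk_surjective m
    have hx : x.fst ∈ I := Ideal.Quotient.eq_zero_iff_mem.mp hm
    rw [← hK, mem_map_fst_iff] at hx
    obtain ⟨y, hy, hyx⟩ := hx
    have h0 : (x - y).fst = 0 := by rw [fst_sub, hyx, sub_self]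
    obtain ⟨c, hc⟩ := DualNumber.fst_eq_zero_iff_eps_dvd.mp h0
    refine ⟨Ideal.Quotient.mk K c, ?_⟩
    change _ = Ideal.Quotient.mk K ((ε : DualNumber A) • c)
    rw [eps_smul, ← hc, Ideal.Quotient.eq]
    simpa using hy
  · intro m hm
    obtain ⟨x, rfl⟩ := Ideal.Quotient.mk_surjective m
    change Ideal.Quotient.mk K ((ε : DualNumber A) • x) = 0 at hm
    rw [eps_smul, Ideal.Quotient.eq_zero_iff_mem] at hm
    exact Ideal.Quotient.eq_zero_iff_mem.mpr (h x hm)

theorem fst_mem_of_flat [Module.Flat (DualNumber A) (DualNumber R ⧸ K)]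
    (hK : Ideal.map (TrivSqZeroExt.fstHom A R R) K = I)
    (x : DualNumber R) (hx : ε * x ∈ K) : x.fst ∈ I := by
  have h1 : (ε : DualNumber A) • (Ideal.Quotient.mk K x) = 0 := by
    change Ideal.Quotient.mk K ((ε : DualNumber A) • x) = 0
    rw [eps_smul, Ideal.Quotient.eq_zero_iff_mem]
    exact hx
  obtain ⟨m', hm'⟩ := exists_of_flat (A := A) (Ideal.Quotient.mk K x) h1
  obtain ⟨y, rfl⟩ := Ideal.Quotient.mk_surjective m'
  change _ = Ideal.Quotient.mk K ((ε : DualNumber A) • y) at hm'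
  rw [eps_smul, Ideal.Quotient.eq] at hm'
  rw [← hK, mem_map_fst_iff]
  exact ⟨_, hm', by simp⟩

end K684.DualFlat
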