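import Mathlib.RingTheory.Grassmannian
import Mathlib.RingTheory.Flat.Localization
import Mathlib.LinearAlgebra.Dual.BaseChange
import Mathlib.LinearAlgebra.TensorProduct.RightExactness
import Mathlib.RingTheory.TensorProduct.Basic
import Mathlib.RingTheory.LocalProperties.Submodule
import Mathlib.RingTheory.Localization.BaseChange

/-!
# Stability of a point of the Grassmannian under multiplication

For `N ∈ Grass^e(A ⊗ B)` the locus where `N` is stable under multiplication by `B` is the vanishing
locus of an ideal of `A`.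
-/

set_option autoImplicit false
open TensorProduct Module
universe u

namespace K684.GrassAlg

variable {R : Type u} [CommRing R] {B : Type u} [CommRing B] [Algebra R B] {e : ℕ}

/-- stability under multiplication by `1 ⊗ b`. -/
def Stable {A : Type u} [CommRing A] [Algebra R A] (N : Submodule A (A ⊗[R] B)) : Prop :=
  ∀ (b : B) (x : A ⊗[R] B), x ∈ N → ((1 : A) ⊗ₜ[R] b) * x ∈ N

/-- the ideal of coefficients. -/
def coefIdeal {A : Type u} [CommRing A] [Algebra R A] (N : Submodule A (A ⊗[R] B)) : Ideal A :=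
  Ideal.span {a | ∃ (b : B) (x : A ⊗[R] B) (l : ((A ⊗[R] B) ⧸ N) →ₗ[A] A), x ∈ N ∧
    a = l (N.mkQ (((1 : A) ⊗ₜ[R] b) * x))}

section

variable {A : Type u} [CommRing A] [Algebra R A] {C : Type u} [CommRing C] [Algebra R C]
  [Algebra A C] [IsScalarTower R A C]

/-- `A ⊗ B → C ⊗ B`. -/
noncomputable def j : A ⊗[R] B →ₐ[R] C ⊗[R] B :=
  Algebra.TensorProduct.map (IsScalarTower.toAlgHom R A C) (AlgHom.id R B)

theorem j_tmul (a : A) (b : B) : j (C := C) (a ⊗ₜ[R] b) = algebraMap A C a ⊗ₜ b := rfl

theorem j_mul (b : B) (x : A ⊗[R] B) :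
    j (C := C) (((1 : A) ⊗ₜ[R] b) * x) = ((1 : C) ⊗ₜ[R] b) * j x := by
  rw [map_mul, j_tmul, map_one]

theorem bc_j (N : Submodule A (A ⊗[R] B)) (x : A ⊗[R] B) :
    Grassmannian.baseChangeMkQ C N (j x) = (1 : C) ⊗ₜ[A] N.mkQ x := by
  induction x with
  | zero => simp
  | add x y hx hy => rw [map_add, map_add, hx, hy, map_add, tmul_add]
  | tmul a b =>
    rw [j_tmul, Grassmannian.baseChangeMkQ]
    simp only [LinearMap.comp_apply, LinearEquiv.coe_coe, AlgebraTensorModule.cancelBaseChange_symm_tmul,
      LinearMap.baseChange_tmul]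
    have h : (a ⊗ₜ[R] b : A ⊗[R] B) = a • ((1 : A) ⊗ₜ[R] b) := by
      rw [smul_tmul', smul_eq_mul, mul_one]
    rw [h, map_smul, ← smul_tmul, Algebra.algebraMap_eq_smul_one]

theorem cancel_tmul (c : C) (x : A ⊗[R] B) :
    AlgebraTensorModule.cancelBaseChange R A C C B (c ⊗ₜ x) = c • j x := by
  induction x with
  | zero => simp
  | add x y hx hy => rw [tmul_add, map_add, hx, hy, map_add, smul_add]
  | tmul a b =>
    rw [AlgebraTensorModule.cancelBaseChange_tmul, j_tmul, smul_tmul', Algebra.smul_def, smul_eq_mul,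
      mul_comm]

theorem stable_of_forall (N : Submodule A (A ⊗[R] B))
    (h : ∀ (b : B) (x : A ⊗[R] B), x ∈ N → (1 : C) ⊗ₜ[A] N.mkQ (((1 : A) ⊗ₜ[R] b) * x) = 0) :
    Stable (R := R) (B := B) (LinearMap.ker (Grassmannian.baseChangeMkQ C N)) := by
  intro b y hy
  have h1 : (N.mkQ.baseChange C) ((AlgebraTensorModule.cancelBaseChange R A C C B).symm y) = 0 := hy
  have hex : Function.Exact (N.subtype.baseChange C) (N.mkQ.baseChange C) :=
    lTensor_exact C (LinearMap.exact_subtype_mkQ N) (Submodule.mkQ_surjective N)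
  obtain ⟨z, hz⟩ := (hex _).mp h1
  have h2 : y = AlgebraTensorModule.cancelBaseChange R A C C B (N.subtype.baseChange C z) := by
    rw [hz, LinearEquiv.apply_symm_apply]
  rw [h2]
  clear h2 hz h1 hy
  induction z with
  | zero => simp
  | add z w hz hw =>
    rw [map_add, map_add, mul_add]
    exact Submodule.add_mem _ hz hw
  | tmul c n =>
    rw [LinearMap.baseChange_tmul, cancel_tmul, mul_smul_comm]
    apply Submodule.smul_mem
    rw [LinearMap.mem_ker, ← j_mul, bc_j]
    exact h b _ n.2

theorem stable_iff (N : Submodule A (A ⊗[R] B)) [Module.Finite A ((A ⊗[R] B) ⧸ N)]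
    [Module.Projective A ((A ⊗[R] B) ⧸ N)] :
    Stable (R := R) (B := B) (LinearMap.ker (Grassmannian.baseChangeMkQ C N)) ↔
      ∀ a ∈ coefIdeal N, algebraMap A C a = 0 := by
  constructor
  · intro h a ha
    have hle : coefIdeal N ≤ RingHom.ker (algebraMap A C) := by
      rw [coefIdeal, Ideal.span_le]
      rintro _ ⟨b, x, l, hx, rfl⟩
      have h1 : j (C := C) x ∈ LinearMap.ker (Grassmannian.baseChangeMkQ C N) := by
        rw [LinearMap.mem_ker, bc_j]
        have : N.mkQ x = 0 := (Submodule.Quotient.mk_eq_zero N).mpr hx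
        rw [this, tmul_zero]
      have h2 := h b _ h1
      rw [← j_mul, LinearMap.mem_ker, bc_j] at h2
      have h3 := congrArg (TensorProduct.rid A C ∘ (l.lTensor C)) h2
      simp only [Function.comp_apply, LinearMap.lTensor_tmul, TensorProduct.rid_tmul, map_zero] at h3
      rw [SetLike.mem_coe, RingHom.mem_ker, Algebra.algebraMap_eq_smul_one]
      exact h3
    exact hle ha
  · intro h
    apply stable_of_forall
    intro b x hx
    obtain ⟨n, f, g, _, _, hfg⟩ := Module.Finite.exists_comp_eq_id_of_projective A ((A ⊗[R] B) ⧸ N)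
    set q := N.mkQ (((1 : A) ⊗ₜ[R] b) * x) with hq
    have h1 : q = f (g q) := by
      have := LinearMap.congr_fun hfg q
      exact this.symm
    have h2 : g q = ∑ i, (g q i) • Pi.single i (1 : A) := by
      funext k
      simp [Finset.sum_apply, Pi.single_apply]
    rw [h1, h2, map_sum, tmul_sum]
    refine Finset.sum_eq_zero fun i _ => ?_
    have h3 : algebraMap A C (g q i) = 0 := h _ (Ideal.subset_span ⟨b, x, (LinearMap.proj i).comp g, hx, rfl⟩)
    rw [map_smul, ← smul_tmul, ← Algebra.algebraMap_eq_smul_one, h3, zero_tmul]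

end

section Map

variable {A : Type u} [CommRing A] [Algebra R A] {C : Type u} [CommRing C] [Algebra R C]

theorem stable_map_iff (φ : A →ₐ[R] C) (N : Grassmannian A (A ⊗[R] B) e) :
    Stable (R := R) (B := B) (Grassmannian.map φ N).toSubmodule ↔ ∀ a ∈ coefIdeal N.toSubmodule, φ a = 0 := by
  letI : Algebra A C := φ.toAlgebra
  letI : IsScalarTower R A C := IsScalarTower.of_algebraMap_eq' <| IsScalarTower.algebraMap_eq R A C
  exact stable_iff (C := C) N.toSubmodule

theorem stable_iff_coefIdeal (N : Grassmannian A (A ⊗[R] B) e) :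
    Stable (R := R) (B := B) N.toSubmodule ↔ coefIdeal N.toSubmodule = ⊥ := by
  have h := stable_map_iff (AlgHom.id R A) N
  rw [show Grassmannian.map (AlgHom.id R A) N = N from
    Grassmannian.map_id e (CommAlgCat.of R A) N] at h
  rw [h, eq_bot_iff]
  rfl

/-- Stability can be checked on basic opens. -/
theorem stable_of_local (N : Grassmannian A (A ⊗[R] B) e)
    (s : Set A) (hs : Ideal.span s = ⊤)
    (h : ∀ r ∈ s, Stable (R := R) (B := B)
      (Grassmannian.map (IsScalarTower.toAlgHom R A (Localization.Away r)) N).toSubmodule) :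
    Stable (R := R) N.toSubmodule := by
  rw [stable_iff_coefIdeal, eq_bot_iff]
  intro a ha
  rw [Ideal.mem_bot]
  refine Module.eq_zero_of_isLocalized_span s hs (fun r => (Localization.Away r.1))
    (fun r => Algebra.linearMap A (Localization.Away r.1)) _ ?_
  intro r
  exact (stable_map_iff _ N).mp (h r.1 r.2) a ha

end Map

end K684.GrassAlg
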