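import Groth.Agent.HilbD.K684.GrassAlg
import Groth.Agent.Fga.ClosedSub

/-!
# The Hilbert functor of points is a closed subfunctor of the Grassmannian
-/

set_option autoImplicit false
open TensorProduct Module AlgebraicGeometry CategoryTheory Groth.Agent
universe u

namespace K684.GrassClosed

open K684.GrassAlg

variable {R : Type u} [CommRing R] {B : Type u} [CommRing B] [Algebra R B]
    {e : ℕ} {X : Over (Spec (CommRingCat.of R))}
    (eX : ∀ A : CommAlgCat.{u} R,
      ((Over.mk (Spec.map (CommRingCat.ofHom (algebraMap R A)))) ⟶ X) ≃ (Module.Grassmannian.functor (R := R) (M := B) e).obj A)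

/-- The submodule attached to an affine point. -/
def N (A : CommAlgCat.{u} R) (g : Over.mk (Spec.map (CommRingCat.ofHom (algebraMap R A))) ⟶ X) :
    Grassmannian A (A ⊗[R] B) e := eX A g

/-- The condition on morphisms `T ⟶ X`: all affine points factoring through it are stable. -/
def P {T : Scheme.{u}} (h : T ⟶ X.left) : Prop :=
  ∀ (A : CommAlgCat.{u} R) (g : Over.mk (Spec.map (CommRingCat.ofHom (algebraMap R A))) ⟶ X)
    (t : Spec (CommRingCat.of A) ⟶ T), t ≫ h = g.left → Stable (R := R) (B := B) (N eX A g).toSubmodule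

variable (heX : ∀ (A C : CommAlgCat.{u} R) (φ : A ⟶ C)
      (g : Over.mk (Spec.map (CommRingCat.ofHom (algebraMap R A))) ⟶ X) (g' : Over.mk (Spec.map (CommRingCat.ofHom (algebraMap R C))) ⟶ X),
      g'.left = Spec.map (CommRingCat.ofHom φ.hom.toRingHom) ≫ g.left →
        eX C g' = (Module.Grassmannian.functor (R := R) (M := B) e).map φ (eX A g))

include heX in
/-- If `t ≫ g.left = g'.left` then `t` is the spectrum of an `R`-algebra map and the point attached to `g'` is
the base change. -/
theorem exists_map {A C : CommAlgCat.{u} R}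
    (g : Over.mk (Spec.map (CommRingCat.ofHom (algebraMap R A))) ⟶ X)
    (g' : Over.mk (Spec.map (CommRingCat.ofHom (algebraMap R C))) ⟶ X)
    (t : Spec (CommRingCat.of C) ⟶ Spec (CommRingCat.of A)) (ht : t ≫ g.left = g'.left) :
    ∃ φ : A →ₐ[R] C, t = Spec.map (CommRingCat.ofHom φ.toRingHom) ∧
      N eX C g' = Grassmannian.map φ (N eX A g) := by
  obtain ⟨ψ, rfl⟩ := Spec.map_surjective t
  have h1 : g.left ≫ X.hom = Spec.map (CommRingCat.ofHom (algebraMap R A)) := Over.w g
  have h2 : g'.left ≫ X.hom = Spec.map (CommRingCat.ofHom (algebraMap R C)) := Over.w g'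
  have h3 : CommRingCat.ofHom (algebraMap R A) ≫ ψ = CommRingCat.ofHom (algebraMap R C) := by
    apply Spec.map_injective
    rw [Spec.map_comp, ← h1, ← h2, ← ht, Category.assoc]
  let φ : A →ₐ[R] C :=
    { ψ.hom with
      commutes' := fun r => by
        have := congrArg (fun z => z.hom r) h3
        exact this }
  have h4 : ψ = CommRingCat.ofHom φ.toRingHom := rfl
  exact ⟨φ, congrArg Spec.map h4, heX A C (CommAlgCat.ofHom φ) g g' ht.symm⟩

include heX in
theorem P_iff {A : CommAlgCat.{u} R} (g : Over.mk (Spec.map (CommRingCat.ofHom (algebraMap R A))) ⟶ X) :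
    P eX g.left ↔ Stable (R := R) (B := B) (N eX A g).toSubmodule := by
  constructor
  · intro h
    exact h A g (𝟙 _) (Category.id_comp _)
  · intro h A' g' t ht
    obtain ⟨φ, -, hφ⟩ := exists_map eX heX g g' t ht
    rw [hφ, stable_map_iff]
    intro a ha
    rw [(stable_iff_coefIdeal _).mp h, Ideal.mem_bot] at ha
    rw [ha, map_zero]

include heX in
theorem isClosedCond : Fga.ClosedSub.IsClosedCond X.left (fun _ => True) (fun {_} h => P eX h) where
  comp := by
    intro T' T j h _ _ hP A g t ht
    exact hP A g (t ≫ j) (by rw [Category.assoc]; exact ht)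
  loc := by
    intro T h _ hloc A g t ht
    let s : Set A := {r | ∃ V : T.Opens, P eX (V.ι ≫ h) ∧
      (PrimeSpectrum.basicOpen r : Set (PrimeSpectrum A)) ⊆ t ⁻¹' (V : Set T)}
    have hs : Ideal.span s = ⊤ := by
      rw [← PrimeSpectrum.iSup_basicOpen_eq_top_iff', eq_top_iff]
      intro p _
      obtain ⟨V, hV, hPV⟩ := hloc (t p)
      have hopen : IsOpen (t ⁻¹' (V : Set T)) := V.isOpen.preimage t.continuous
      obtain ⟨_, ⟨r, rfl⟩, hr1, hr2⟩ := PrimeSpectrum.isTopologicalBasis_basic_opens.exists_subset_of_mem_open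
        (show p ∈ t ⁻¹' (V : Set T) from hV) hopen
      simp only [TopologicalSpace.Opens.mem_iSup]
      exact ⟨r, ⟨V, hPV, hr2⟩, hr1⟩
    refine stable_of_local _ s hs ?_
    rintro r ⟨V, hPV, hr⟩
    let Ar : CommAlgCat.{u} R := CommAlgCat.of R (Localization.Away r)
    let φ : A →ₐ[R] Ar := IsScalarTower.toAlgHom R A (Localization.Away r)
    let i : Spec (CommRingCat.of Ar) ⟶ Spec (CommRingCat.of A) := Spec.map (CommRingCat.ofHom φ.toRingHom)
    have hi : i ≫ Spec.map (CommRingCat.ofHom (algebraMap R A)) =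
        Spec.map (CommRingCat.ofHom (algebraMap R Ar)) := by
      rw [← Spec.map_comp, ← CommRingCat.ofHom_comp]
      congr 2
    let gr : Over.mk (Spec.map (CommRingCat.ofHom (algebraMap R Ar))) ⟶ X :=
      Over.homMk (i ≫ g.left) (by
        rw [Category.assoc, show g.left ≫ X.hom = Spec.map (CommRingCat.ofHom (algebraMap R A)) from Over.w g]
        exact hi)
    have hrange : Set.range (i ≫ t) ⊆ Set.range V.ι := by
      rw [Scheme.Opens.range_ι]
      rintro _ ⟨y, rfl⟩
      rw [Scheme.Hom.comp_apply]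
      apply hr
      have : i y ∈ Set.range (PrimeSpectrum.comap (algebraMap A (Localization.Away r))) := ⟨y, rfl⟩
      rwa [PrimeSpectrum.localization_away_comap_range (Localization.Away r) r] at this
    have h1 : Stable (R := R) (B := B) (N eX Ar gr).toSubmodule := by
      refine hPV Ar gr (IsOpenImmersion.lift V.ι (i ≫ t) hrange) ?_
      rw [IsOpenImmersion.lift_fac_assoc, Category.assoc, ht]
      rfl
    have h2 : N eX Ar gr = Grassmannian.map φ (N eX A g) := heX A Ar (CommAlgCat.ofHom φ) g gr rfl
    rw [h2] at h1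
    exact h1
  aff := by
    intro x
    let A : CommRingCat.{u} := X.left.affineOpenCover.X (X.left.affineOpenCover.idx x)
    let v : Spec A ⟶ X.left := X.left.affineOpenCover.f (X.left.affineOpenCover.idx x)
    obtain ⟨ρ, hρ⟩ := Spec.map_surjective (v ≫ X.hom)
    let i1 : Algebra R A := ρ.hom.toAlgebra
    let AA : CommAlgCat.{u} R := CommAlgCat.of R A
    let g0 : Over.mk (Spec.map (CommRingCat.ofHom (algebraMap R AA))) ⟶ X := Over.homMk v hρ.symm
    refine ⟨A, v, inferInstance, X.left.affineOpenCover.covers x, coefIdeal (N eX AA g0).toSubmodule, ?_⟩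
    intro C φ _
    let i2 : Algebra R C := (φ.hom.comp ρ.hom).toAlgebra
    let CC : CommAlgCat.{u} R := CommAlgCat.of R C
    let φ' : A →ₐ[R] C := { φ.hom with commutes' := fun r => rfl }
    let g1 : Over.mk (Spec.map (CommRingCat.ofHom (algebraMap R CC))) ⟶ X :=
      Over.homMk (Spec.map φ ≫ v) (by
        rw [Category.assoc, ← hρ, ← Spec.map_comp]
        rfl)
    have h1 : N eX CC g1 = Grassmannian.map φ' (N eX AA g0) := heX AA CC (CommAlgCat.ofHom φ') g0 g1 rfl
    have h2 : P eX g1.left ↔ Stable (R := R) (B := B) (N eX CC g1).toSubmodule := P_iff eX heX g1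
    rw [h1, stable_map_iff] at h2
    exact h2

end K684.GrassClosed
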