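import Groth.Agent.HilbD.K684.ChartFT
import Groth.Agent.Picfga.HilbSep

/-!
# Hilbert schemes of points are locally of finite type
-/

set_option autoImplicit false
set_option backward.isDefEq.respectTransparency false

universe u

open CategoryTheory CategoryTheory.Limits AlgebraicGeometry Opposite

namespace K684.HilbLFT

open Groth.Agent Groth.Agent.Picfga Groth.Agent.Picfga.HilbPull Groth.Agent.Picfga.OverRep
  Groth.Agent.Picfga.HilbRep Groth.Agent.Picfga.HilbZero

theorem lft_of_local {X S : Scheme.{u}} {f : X ⟶ S} {d : ℕ} {H : Over S} {Z : HilbD.Obj f d H}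
    (hZ : HilbD.IsUniversal f d H Z)
    (h : ∀ x : H.left, ∃ (U : H.left.Opens) (H₁ : Over S) (ξ : HilbD.Obj f d H₁)
      (k : Over.mk (U.ι ≫ H.hom) ⟶ H₁), x ∈ U ∧ LocallyOfFiniteType H₁.hom ∧
      pullObj f k ξ = pullObj f (res H U) Z ∧
      ∀ (T : Over S) (a b : T ⟶ H₁), pullObj f a ξ = pullObj f b ξ → a = b) :
    LocallyOfFiniteType H.hom := by
  choose U H₁ ξ k hxU hft hk hmono using h
  have key : ∀ x, LocallyOfFiniteType ((U x).ι ≫ H.hom) := by
    intro x
    obtain ⟨c, hc, -⟩ := hZ _ (ξ x)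
    have hc' : pullObj f c Z = ξ x := Subtype.ext hc
    have hkc : k x ≫ c = res H (U x) := by
      apply hom_ext_of_isUniversal hZ
      have := congrArg Subtype.val (hk x)
      rw [← hc', ← pullObj_comp] at this
      exact this
    have hmc : Mono c.left := by
      refine ⟨fun {T} a b hab => ?_⟩
      have hw : b ≫ (H₁ x).hom = a ≫ (H₁ x).hom := by
        rw [← Over.w c, ← Category.assoc, ← Category.assoc, hab]
      let a' : Over.mk (a ≫ (H₁ x).hom) ⟶ H₁ x := Over.homMk a rfl
      let b' : Over.mk (a ≫ (H₁ x).hom) ⟶ H₁ x := Over.homMk b hw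
      have hab' : a' ≫ c = b' ≫ c := by
        ext
        exact hab
      have := hmono x _ a' b' (by rw [← hc', ← pullObj_comp, ← pullObj_comp, hab'])
      exact congrArg CommaMorphism.left this
    have hsq : IsPullback (k x).left (𝟙 (U x).toScheme) c.left (U x).ι := by
      have hw : (k x).left ≫ c.left = (U x).ι := congrArg CommaMorphism.left hkc
      refine IsPullback.of_isLimit' ⟨by rw [hw]; exact (Category.id_comp _).symm⟩ ?_
      refine PullbackCone.IsLimit.mk _ (fun s => s.snd) (fun s => ?_) (fun s => Category.comp_id _)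
        (fun s m _ hm => by simpa using hm)
      rw [← cancel_mono c.left, Category.assoc, hw, s.condition]
    have hopen : IsOpenImmersion (k x).left :=
      MorphismProperty.of_isPullback (P := @IsOpenImmersion) hsq.flip inferInstance
    have hkw : (k x).left ≫ (H₁ x).hom = (U x).ι ≫ H.hom := Over.w (k x)
    have := hft x
    rw [← hkw]
    infer_instance
  let 𝒰 : Scheme.OpenCover.{u} H.left :=
    { I₀ := H.left
      X := fun x => (U x).toScheme
      f := fun x => (U x).ι
      mem₀ := by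
        rw [Scheme.presieve₀_mem_precoverage_iff]
        exact ⟨fun t => ⟨t, ⟨t, hxU t⟩, rfl⟩, inferInstance⟩ }
  exact (IsZariskiLocalAtSource.iff_of_openCover (P := @LocallyOfFiniteType) 𝒰).2 key

/-- the affine case -/
theorem lft_affine {X S : Scheme.{u}} [IsAffine X] [IsAffine S] (f : X ⟶ S) [hf : LocallyOfFiniteType f]
    {d : ℕ} {H : Over S} {Z : HilbD.Obj f d H} (hZ : HilbD.IsUniversal f d H Z) :
    LocallyOfFiniteType H.hom := by
  choose H₁ hH₁ ξ h0 h1 h2 h3 using fun w : Fin d → Γ(X, ⊤) => ChartFT.exists_hilb_chart f w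
  apply lft_of_local hZ
  intro t
  obtain ⟨V, hV, htV, -⟩ := exists_isAffineOpen_mem_and_subset (X := H.left) (x := t)
    (U := ⊤) trivial
  have hVa : IsAffine (Over.mk (V.ι ≫ H.hom)).left := hV
  obtain ⟨w, s, hs, hs'⟩ := HilbAff.exists_coord f (pullObj f (res H V) Z) (⟨t, htV⟩ : V.toScheme)
  obtain ⟨U, k, hU, hk⟩ := HilbAff.exists_nhd_chart f (ξ w) (h2 w) Z hV _ s hs hs'
  exact ⟨U, H₁ w, ξ w, k, hU, h0 w hf, hk, fun T a b hab => h3 w T a b hab⟩

theorem lft_zero {X S : Scheme.{u}} (f : X ⟶ S) {H : Over S} {Z : HilbD.Obj f 0 H}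
    (hZ : HilbD.IsUniversal f 0 H Z) : LocallyOfFiniteType H.hom := by
  apply lft_of_local hZ
  intro t
  refine ⟨⊤, Over.mk (𝟙 S), topObj f _, Over.homMk ((⊤ : H.left.Opens).ι ≫ H.hom) (by simp), trivial,
    inferInstanceAs (LocallyOfFiniteType (𝟙 S)), ?_, fun T a b _ => (Over.mkIdTerminal (X := S)).hom_ext _ _⟩
  apply Subtype.ext
  rw [obj_zero_eq_top f, obj_zero_eq_top f]

/-- The Hilbert scheme of points of a separated scheme locally of finite type is locally of finite type. -/
theorem lft {X S : Scheme.{u}} (f : X ⟶ S) [IsSeparated f] [hf : LocallyOfFiniteType f]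
    {d : ℕ} {H : Over S} {Z : HilbD.Obj f d H} (hZ : HilbD.IsUniversal f d H Z)
    (h : ∀ (s : S) (x : Fin d → X), (∀ i, f (x i) = s) → ∃ U : X.Opens, IsAffineOpen U ∧ ∀ i, x i ∈ U) :
    LocallyOfFiniteType H.hom := by
  rcases Nat.eq_zero_or_pos d with rfl | hd
  · exact lft_zero f hZ
  have haff : ∀ i : Idx f, HilbD.Representable i.f' d := fun i => by
    have : IsAffine i.U.toScheme := i.hU
    have : IsAffine i.V.toScheme := i.hV
    exact Groth.Agent.S1165.result i.f' d
  choose H₁ Z₁ hZ₁ using haff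
  apply lft_of_local hZ
  intro t
  obtain ⟨i, hi⟩ := exists_idx hd h Z t
  obtain ⟨k, hk⟩ := exists_of_good H₁ Z₁ hZ₁ hd i (pullObj f (res H (good i.U Z)) Z) (fun t => by
    rw [good_pull]
    exact t.2)
  refine ⟨good i.U Z, OpenPush.toS i.V.ι (H₁ i), OpenPush.pushObj i.sq (Z₁ i), k, hi, ?_, hk,
    fun T a b hab => mono_aux H₁ Z₁ hZ₁ i T a b hab⟩
  have : IsAffine i.U.toScheme := i.hU
  have : IsAffine i.V.toScheme := i.hV
  have h1 : LocallyOfFiniteType (H₁ i).hom := lft_affine i.f' (hZ₁ i)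
  exact inferInstanceAs (LocallyOfFiniteType ((H₁ i).hom ≫ i.V.ι))

end K684.HilbLFT
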