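import Groth.Agent.HilbD.K684.Conn

/-!
# Connectedness of punctual Hilbert schemes
-/

set_option autoImplicit false
set_option linter.style.haveILetI false
set_option linter.unusedSectionVars false
open CategoryTheory CategoryTheory.Limits AlgebraicGeometry Groth.Agent
universe u

namespace K684.NVArt

open AffDict NestAlg NestAff NestPush NestTop Picfga.HilbPull Picfga.SecGraph IsLocalRing

section

variable {k : Type u} [Field k] {X : Scheme.{u}} [IsAffine X] (f : X ⟶ Spec (.of k))
  (hnil : ∀ a : Γ(X, ⊤), ∃ c : k, IsNilpotent (a - (str f).hom c))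

/-- finiteness of the ring of functions. -/
def fin : Prop := (str f).hom.Finite

/-- the dimension of the ring of functions. -/
noncomputable def dimk : ℕ := letI := (str f).hom.toAlgebra; Module.finrank k Γ(X, ⊤)

variable {K : Type u} [Field K] (t : Spec (.of K) ⟶ Spec (.of k))

/-- projection to `X` -/
noncomputable def pr : PicF.XT f (Over.mk t) ⟶ X := pullback.fst f t

theorem pushout_data (γ : CommRingCat.of k ⟶ .of K) (ht : t = Spec.map γ) :
    IsPushout (str f) γ (pr f t).appTop (st f t) := by
  subst ht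
  exact isPushout_str (IsPullback.of_hasPullback f (Spec.map γ))

theorem finrank_fibre (hfin : fin f) : letI := (st f t).hom.toAlgebra
    Module.Finite K Γ(PicF.XT f (Over.mk t), ⊤) ∧
      Module.finrank K Γ(PicF.XT f (Over.mk t), ⊤) = dimk f := by
  obtain ⟨γ, hγ⟩ := Spec.map_surjective t
  have hpo := pushout_data f t γ hγ.symm
  letI a1 := (str f).hom.toAlgebra
  letI a2 := (st f t).hom.toAlgebra
  letI a3 : Algebra k K := γ.hom.toAlgebra
  letI a4 : Algebra Γ(X, ⊤) Γ(PicF.XT f (Over.mk t), ⊤) := (pr f t).appTop.hom.toAlgebra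
  letI a5 : Algebra k Γ(PicF.XT f (Over.mk t), ⊤) := (γ ≫ st f t).hom.toAlgebra
  have t1 : IsScalarTower k K Γ(PicF.XT f (Over.mk t), ⊤) := IsScalarTower.of_algebraMap_eq fun _ => rfl
  have t2 : IsScalarTower k Γ(X, ⊤) Γ(PicF.XT f (Over.mk t), ⊤) :=
    IsScalarTower.of_algebraMap_eq fun c => congr($(hpo.w).hom c).symm
  have h1 : Algebra.IsPushout k K Γ(X, ⊤) Γ(PicF.XT f (Over.mk t), ⊤) :=
    CommRingCat.isPushout_iff_isPushout.1 hpo.flip
  have h2 : Module.Finite k Γ(X, ⊤) := hfin
  have h3 := h1.out.equiv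
  refine ⟨Module.Finite.equiv h3, ?_⟩
  rw [← LinearEquiv.finrank_eq h3, Module.finrank_baseChange]
  rfl

include hnil in
theorem nilpotent_of_ev (y : Spec (.of K) ⟶ X) (hy : y ≫ f = t) (b : Γ(PicF.XT f (Over.mk t), ⊤))
    (hb : (ev f t y hy).hom b = 0) : IsNilpotent b := by
  obtain ⟨γ, hγ⟩ := Spec.map_surjective t
  have hpo := pushout_data f t γ hγ.symm
  have hsurj : ∀ b : Γ(PicF.XT f (Over.mk t), ⊤), ∃ c : K, IsNilpotent (b - (st f t).hom c) := by
    letI a1 := (str f).hom.toAlgebra
    letI a2 := (st f t).hom.toAlgebra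
    letI a3 : Algebra k K := γ.hom.toAlgebra
    letI a4 : Algebra Γ(X, ⊤) Γ(PicF.XT f (Over.mk t), ⊤) := (pr f t).appTop.hom.toAlgebra
    letI a5 : Algebra k Γ(PicF.XT f (Over.mk t), ⊤) := (γ ≫ st f t).hom.toAlgebra
    have t1 : IsScalarTower k K Γ(PicF.XT f (Over.mk t), ⊤) := IsScalarTower.of_algebraMap_eq fun _ => rfl
    have t2 : IsScalarTower k Γ(X, ⊤) Γ(PicF.XT f (Over.mk t), ⊤) :=
      IsScalarTower.of_algebraMap_eq fun c => congr($(hpo.w).hom c).symm
    have h1 : Algebra.IsPushout k K Γ(X, ⊤) Γ(PicF.XT f (Over.mk t), ⊤) :=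
      CommRingCat.isPushout_iff_isPushout.1 hpo.flip
    intro b
    induction b using h1.out.inductionOn with
    | zero => exact ⟨0, by simp⟩
    | add x y hx hy =>
      obtain ⟨c, hc⟩ := hx
      obtain ⟨d, hd⟩ := hy
      refine ⟨c + d, ?_⟩
      have : x + y - (st f t).hom (c + d) = (x - (st f t).hom c) + (y - (st f t).hom d) := by
        rw [map_add]; ring
      rw [this]
      exact (Commute.all _ _).isNilpotent_add hc hd
    | smul r x hx =>
      obtain ⟨c, hc⟩ := hx
      refine ⟨r * c, ?_⟩
      have : r • x - (st f t).hom (r * c) = (st f t).hom r * (x - (st f t).hom c) := by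
        rw [map_mul, mul_sub, Algebra.smul_def]
        rfl
      rw [this]
      exact (Commute.all _ _).isNilpotent_mul_left hc
    | tmul a =>
      obtain ⟨c, hc⟩ := hnil a
      refine ⟨γ.hom c, ?_⟩
      have h3 : (st f t).hom (γ.hom c) = (pr f t).appTop.hom ((str f).hom c) :=
        congr($(hpo.w).hom c).symm
      change IsNilpotent ((pr f t).appTop.hom a - (st f t).hom (γ.hom c))
      rw [h3, ← map_sub]
      exact hc.map _
  obtain ⟨c, hc⟩ := hsurj b
  have h1 : (ev f t y hy).hom ((st f t).hom c) = c := congr($(st_ev f t y hy).hom c)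
  have h2 : IsNilpotent ((ev f t y hy).hom (b - (st f t).hom c)) := hc.map _
  rw [map_sub, hb, h1, zero_sub, isNilpotent_neg_iff] at h2
  have h3 : c = 0 := h2.eq_zero
  rw [h3, map_zero, sub_zero] at hc
  exact hc

include hnil in
theorem nv_of_lt (hfin : fin f) (m : ℕ) (hm : m < dimk f) : NV f m := by
  intro K _ t y hy z hcon
  obtain ⟨h1, h2⟩ := finrank_fibre f t hfin
  letI := (st f t).hom.toAlgebra
  obtain ⟨h3, h4⟩ := finrank_obj t z
  have hnoeth : IsNoetherianRing Γ(PicF.XT f (Over.mk t), ⊤) := IsNoetherianRing.of_finite K _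
  have h5 : idl z.1 * RingHom.ker (ev f t y hy).hom = idl z.1 := by
    rw [← idl_secGraph, ← idl_mul, hcon]
  have h6 : idl z.1 = ⊥ := by
    refine Submodule.eq_bot_of_le_smul_of_le_jacobson_bot (RingHom.ker (ev f t y hy).hom) _
      (IsNoetherian.noetherian _) (by rw [smul_eq_mul, mul_comm, h5]) ?_
    intro b hb
    rw [Ideal.jacobson_bot]
    exact nilradical_le_jacobson (R := Γ(PicF.XT f (Over.mk t), ⊤)) (nilpotent_of_ev f hnil t y hy b hb)
  have h7 : Module.finrank K (Γ(PicF.XT f (Over.mk t), ⊤) ⧸ idl z.1) =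
      Module.finrank K Γ(PicF.XT f (Over.mk t), ⊤) := by
    rw [h6]
    exact LinearEquiv.finrank_eq (AlgEquiv.quotientBot K _).toLinearEquiv
  rw [h4, h2] at h7
  omega

theorem le_dimk (hfin : fin f) {n : ℕ} {H : Over (Spec (.of k))} (Z : HilbD.Obj f n H) [Nonempty H.left] :
    n ≤ dimk f := by
  obtain ⟨h⟩ := ‹Nonempty H.left›
  let K := H.left.residueField h
  let t : Spec (.of K) ⟶ Spec (.of k) := H.left.fromSpecResidueField h ≫ H.hom
  let g : Over.mk t ⟶ H := Over.homMk (H.left.fromSpecResidueField h) rfl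
  obtain ⟨h1, h2⟩ := finrank_fibre f t hfin
  letI := (st f t).hom.toAlgebra
  obtain ⟨h3, h4⟩ := finrank_obj t (pullObj f g Z)
  rw [← h4, ← h2]
  exact LinearMap.finrank_le_finrank_of_surjective
    (f := (Ideal.Quotient.mkₐ K (idl (pullObj f g Z).1)).toLinearMap) Ideal.Quotient.mk_surjective

end

/-- The Hilbert schemes of points of the spectrum of a finite local algebra are connected or empty. -/
theorem preconnected {k : Type u} [Field k] [IsAlgClosed k]
    (R : Type u) [CommRing R] [Algebra k R] [IsLocalRing R] [Module.Finite k R] (n : ℕ)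
    (H : Over (Spec (CommRingCat.of k)))
    (Z : HilbD.Obj (Spec.map (CommRingCat.ofHom (algebraMap k R))) n H)
    (hH : HilbD.IsUniversal (Spec.map (CommRingCat.ofHom (algebraMap k R))) n H Z) :
    PreconnectedSpace H.left := by
  rcases isEmpty_or_nonempty H.left with hE | hE
  · exact ⟨by rw [Set.univ_eq_empty_iff.2 hE]; exact isPreconnected_empty⟩
  have hstr : str (Spec.map (CommRingCat.ofHom (algebraMap k R))) =
      CommRingCat.ofHom (algebraMap k R) ≫ (Scheme.ΓSpecIso (.of R)).inv :=
    (Scheme.ΓSpecIso_inv_naturality _).symm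
  have hart : IsArtinianRing R := IsArtinianRing.of_finite k R
  have hnil : ∀ a : Γ(Spec (.of R), ⊤), ∃ c : k,
      IsNilpotent (a - (str (Spec.map (CommRingCat.ofHom (algebraMap k R)))).hom c) := by
    intro a
    obtain ⟨r, rfl⟩ := (ConcreteCategory.bijective_of_isIso (Scheme.ΓSpecIso (.of R)).inv).2 a
    have hfin : Module.Finite k (ResidueField R) := Module.Finite.of_surjective
      (IsScalarTower.toAlgHom k R (ResidueField R)).toLinearMap (residue_surjective)
    obtain ⟨c, hc⟩ := (IsAlgClosed.algebraMap_bijective_of_isIntegral (k := k) (K := ResidueField R)).2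
      (residue R r)
    refine ⟨c, ?_⟩
    rw [hstr]
    have h1 : IsNilpotent (r - algebraMap k R c) := by
      have h2 : r - algebraMap k R c ∈ maximalIdeal R := by
        rw [← residue_eq_zero_iff, map_sub, sub_eq_zero, ← hc]
        exact IsScalarTower.algebraMap_apply k R (ResidueField R) c
      have h3 := IsArtinianRing.isNilpotent_jacobson_bot (R := R)
      rw [jacobson_eq_maximalIdeal _ bot_ne_top] at h3
      obtain ⟨m, hm⟩ := h3
      refine ⟨m, ?_⟩
      have := Ideal.pow_mem_pow h2 m
      rw [hm] at this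
      exact this
    have h4 := h1.map (Scheme.ΓSpecIso (.of R)).inv.hom
    rw [map_sub] at h4
    exact h4
  have hfin : fin (Spec.map (CommRingCat.ofHom (algebraMap k R))) := by
    rw [fin, hstr, CommRingCat.hom_comp]
    exact (RingHom.Finite.of_surjective _
      (ConcreteCategory.bijective_of_isIso (Scheme.ΓSpecIso (.of R)).inv).2).comp
      (RingHom.finite_algebraMap.2 inferInstance)
  have hft : LocallyOfFiniteType (Spec.map (CommRingCat.ofHom (algebraMap k R))) := by
    have : IsFinite (Spec.map (CommRingCat.ofHom (algebraMap k R))) :=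
      (IsFinite.SpecMap_iff _).2 (RingHom.finite_algebraMap.2 inferInstance)
    infer_instance
  have hconn : ConnectedSpace (Spec (.of R)) := by
    have h1 : Subsingleton (PrimeSpectrum R) := by
      refine ⟨fun p q => ?_⟩
      have : ∀ p : PrimeSpectrum R, p.asIdeal = maximalIdeal R := fun p =>
        eq_maximalIdeal (IsArtinianRing.isMaximal_of_isPrime p.asIdeal)
      exact PrimeSpectrum.ext ((this p).trans (this q).symm)
    have h2 : Nonempty (PrimeSpectrum R) := inferInstance
    have h3 : Subsingleton (Spec (.of R)) := h1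
    have h4 : Nonempty (Spec (.of R)) := h2
    exact { isPreconnected_univ := Set.subsingleton_univ.isPreconnected, toNonempty := h4 }
  have hFA : FA (Spec (.of R)) := fun s _ => ⟨⊤, isAffineOpen_top _, Set.subset_univ _⟩
  have hle := le_dimk (Spec.map (CommRingCat.ofHom (algebraMap k R))) hfin Z
  exact (Conn.connected_of_nv (Spec.map (CommRingCat.ofHom (algebraMap k R))) hFA n
    (fun m hm => nv_of_lt _ hnil hfin m (by omega)) H Z hH).toPreconnectedSpace

end K684.NVArt
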