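import Groth.Agent.HilbD.K684.NestTop
import Groth.Agent.HilbD.K684.HilbLFT
import Groth.Agent.S2501

/-!
# Connectedness of Hilbert schemes of points of connected schemes of positive dimension
-/

set_option autoImplicit false
set_option linter.style.haveILetI false
set_option linter.unusedSectionVars false
open CategoryTheory CategoryTheory.Limits AlgebraicGeometry Groth.Agent
universe u

namespace K684.NVPos

open NestAff NestPush NestTop Picfga.HilbPull Picfga.SecGraph IsLocalRing

/-- Nakayama: if `I · J = I` then `I` vanishes in a neighbourhood of every point of `V(J)`. -/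
theorem exists_open_of_mul_eq {W : Scheme.{u}} [IsLocallyNoetherian W] (I J : W.IdealSheafData)
    (h : I * J = I) (x : W) (hx : x ∈ J.support) : ∃ O : W.Opens, x ∈ O ∧ (O : Set W) ⊆ I.support := by
  obtain ⟨V, hV, hxV, -⟩ := exists_isAffineOpen_mem_and_subset (X := W) (x := x) (U := ⊤) trivial
  have hnoeth : IsNoetherianRing Γ(W, V) := IsLocallyNoetherian.component_noetherian ⟨V, hV⟩
  have h1 : I.ideal ⟨V, hV⟩ * J.ideal ⟨V, hV⟩ = I.ideal ⟨V, hV⟩ := by
    have := congr(($h).ideal ⟨V, hV⟩)
    simpa using this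
  obtain ⟨r, hr, hr'⟩ := Submodule.exists_sub_one_mem_and_smul_eq_zero_of_fg_of_le_smul
    (J.ideal ⟨V, hV⟩) (I.ideal ⟨V, hV⟩) (IsNoetherian.noetherian _)
    (by rw [smul_eq_mul, mul_comm, h1])
  refine ⟨W.basicOpen r, ?_, ?_⟩
  · rw [Scheme.IdealSheafData.mem_support_iff_of_mem (U := ⟨V, hV⟩) hxV, Scheme.mem_zeroLocus_iff] at hx
    have h2 := hx _ hr
    rw [← W.evaluation_ne_zero_iff_mem_basicOpen x hxV, not_not, map_sub, map_one, sub_eq_zero] at h2
    rw [← W.evaluation_ne_zero_iff_mem_basicOpen x hxV, h2]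
    exact one_ne_zero
  · intro p hp
    have hpV : p ∈ V := W.basicOpen_le r hp
    change p ∈ I.support
    rw [Scheme.IdealSheafData.mem_support_iff_of_mem (U := ⟨V, hV⟩) hpV, Scheme.mem_zeroLocus_iff]
    intro i hi hpi
    have h2 : r * i = 0 := hr' i hi
    have h3 : p ∈ W.basicOpen (r * i) := by
      rw [Scheme.basicOpen_mul]
      exact ⟨hp, hpi⟩
    rw [h2, Scheme.basicOpen_zero] at h3
    exact h3

theorem finite_open_jacobson {X : Type u} [TopologicalSpace X] [JacobsonSpace X] [ConnectedSpace X]
    (O : Set X) (hO : IsOpen O) (hfin : O.Finite) (hne : O.Nonempty) : Subsingleton X := by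
  have h1 : O ∩ closedPoints X = O := by
    have h2 : IsClosed (O ∩ closedPoints X) := by
      have : O ∩ closedPoints X = ⋃ x ∈ O ∩ closedPoints X, {x} :=
        (Set.biUnion_of_singleton _).symm
      rw [this]
      exact (hfin.inter_of_left _).isClosed_biUnion fun x hx => hx.2
    have h3 := JacobsonSpace.closure_inter_closedPoints_eq_closure hO.isLocallyClosed
    rw [h2.closure_eq] at h3
    apply Set.Subset.antisymm Set.inter_subset_left
    rw [h3]
    exact subset_closure
  have hcl : IsClosed O := by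
    rw [← h1]
    have : O ∩ closedPoints X = ⋃ x ∈ O ∩ closedPoints X, {x} :=
        (Set.biUnion_of_singleton _).symm
    rw [this]
    exact (hfin.inter_of_left _).isClosed_biUnion fun x hx => hx.2
  have huniv : O = Set.univ := IsClopen.eq_univ ⟨hcl, hO⟩ hne
  obtain ⟨x, hx⟩ := hne
  have hxc : IsClosed ({x} : Set X) := by
    have : x ∈ O ∩ closedPoints X := by rw [h1]; exact hx
    exact this.2
  have hxo : IsOpen ({x} : Set X) := by
    rw [← isClosed_compl_iff]
    have : ({x} : Set X)ᶜ = ⋃ y ∈ ({x} : Set X)ᶜ, {y} :=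
      (Set.biUnion_of_singleton _).symm
    rw [this]
    refine Set.Finite.isClosed_biUnion (hfin.subset (by rw [huniv]; exact Set.subset_univ _)) fun y _ => ?_
    have : y ∈ O ∩ closedPoints X := by rw [h1, huniv]; trivial
    exact this.2
  have h4 : ({x} : Set X) = Set.univ := IsClopen.eq_univ ⟨hxc, hxo⟩ ⟨x, rfl⟩
  exact Set.subsingleton_univ_iff.1 (by rw [← h4]; exact Set.subsingleton_singleton)

theorem nv_of_pos {k : Type u} [Field k] {X : Scheme.{u}} (f : X ⟶ Spec (.of k)) [LocallyOfFiniteType f]
    [IsSeparated f] [ConnectedSpace X] (hX : 0 < topologicalKrullDim X) (n : ℕ) : NV f n := by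
  intro K _ t y hy z hcon
  have hW : IsLocallyNoetherian (PicF.XT f (Over.mk t)) := by
    have h1 : LocallyOfFiniteType (PicF.XTproj f (Over.mk t)) :=
      inferInstanceAs (LocallyOfFiniteType (pullback.snd f t))
    have h2 : IsLocallyNoetherian (Over.mk t).left := inferInstanceAs (IsLocallyNoetherian (Spec (.of K)))
    exact LocallyOfFiniteType.isLocallyNoetherian (PicF.XTproj f (Over.mk t))
  let x : PicF.XT f (Over.mk t) := sec f (Over.mk t) y hy (closedPoint K)
  obtain ⟨O, hxO, hO⟩ := exists_open_of_mul_eq _ _ hcon x (by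
    rw [secGraph_eq_ker]
    exact Scheme.Hom.range_subset_ker_support _ ⟨_, rfl⟩)
  have hopen : IsOpenMap (pullback.fst f t) := (pullback.fst f t).isOpenMap
  have h1 : IsOpen ((pullback.fst f t) '' (O : Set (PicF.XT f (Over.mk t)))) := hopen _ O.2
  have hfin : ((pullback.fst f t) '' (O : Set (PicF.XT f (Over.mk t)))).Finite := by
    refine (finite_fibre z (closedPoint K)).subset ?_
    rintro _ ⟨p, hp, rfl⟩
    have hp' : p ∈ Set.range z.1.subschemeι := by
      rw [Scheme.IdealSheafData.range_subschemeι]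
      exact hO hp
    obtain ⟨q, rfl⟩ := hp'
    refine ⟨q, Subsingleton.elim (α := PrimeSpectrum K) _ _, ?_⟩
    rw [Scheme.Hom.comp_apply]
    rfl
  have : JacobsonSpace X := LocallyOfFiniteType.jacobsonSpace f
  have hsub : Subsingleton X := finite_open_jacobson _ h1 hfin ⟨_, ⟨x, hxO, rfl⟩⟩
  have hdim : topologicalKrullDim X ≤ 0 := by
    have : Subsingleton (TopologicalSpace.IrreducibleCloseds X) := by
      refine ⟨fun a b => ?_⟩
      apply TopologicalSpace.IrreducibleCloseds.ext
      have h : ∀ c : TopologicalSpace.IrreducibleCloseds X, (c : Set X) = Set.univ := fun c =>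
        Set.eq_univ_of_forall fun p => by
          obtain ⟨q, hq⟩ := c.isIrreducible.nonempty
          rwa [Subsingleton.elim p q]
      rw [h a, h b]
    exact Order.krullDim_nonpos_of_subsingleton
  exact absurd hX (not_lt.2 hdim)

end K684.NVPos
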