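import Mathlib

/-!
# Nested ideals of finite colength: algebra
-/

set_option autoImplicit false
set_option linter.unusedSectionVars false
set_option linter.style.haveILetI false
universe u

open TensorProduct

namespace K684.NestAlg

section Ker

variable {R B : Type u} [CommRing R] [CommRing B] [Algebra R B] (y : B →ₐ[R] R) (I : Ideal B)
  (ψ : I →ₗ[R] R)

/-- semilinearity of a functional on an ideal. -/
def SL : Prop := ∀ (b : B) (i : I), ψ (b • i) = y b * ψ i

variable {y I ψ}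

/-- The kernel of a semilinear functional, as an ideal. -/
def kerI (h : SL y I ψ) : Ideal B where
  carrier := {x | ∃ hx : x ∈ I, ψ ⟨x, hx⟩ = 0}
  add_mem' := by
    rintro a b ⟨ha, ha'⟩ ⟨hb, hb'⟩
    refine ⟨I.add_mem ha hb, ?_⟩
    have : (⟨a + b, I.add_mem ha hb⟩ : I) = ⟨a, ha⟩ + ⟨b, hb⟩ := rfl
    rw [this, map_add, ha', hb', add_zero]
  zero_mem' := ⟨I.zero_mem, map_zero ψ⟩
  smul_mem' := by
    rintro c x ⟨hx, hx'⟩
    refine ⟨I.mul_mem_left c hx, ?_⟩
    have : (⟨c • x, I.mul_mem_left c hx⟩ : I) = c • ⟨x, hx⟩ := rfl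
    rw [this, h, hx', mul_zero]

theorem mem_kerI (h : SL y I ψ) {x : B} : x ∈ kerI h ↔ ∃ hx : x ∈ I, ψ ⟨x, hx⟩ = 0 := Iff.rfl

theorem kerI_le (h : SL y I ψ) : kerI h ≤ I := fun _ hx => hx.1

theorem mul_le_kerI (h : SL y I ψ) : I * RingHom.ker y ≤ kerI h := by
  rw [Ideal.mul_le]
  intro r hr s hs
  refine ⟨I.mul_mem_right s hr, ?_⟩
  have : (⟨r * s, I.mul_mem_right s hr⟩ : I) = s • ⟨r, hr⟩ := Subtype.ext (mul_comm r s)
  rw [this, h, (show y s = 0 from hs), zero_mul]

/-- The quotient by the kernel is an extension. -/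
theorem exists_equiv (h : SL y I ψ) (hψ : Function.Surjective ψ) [Module.Projective R (B ⧸ I)] :
    Nonempty ((B ⧸ kerI h) ≃ₗ[R] (B ⧸ I) × R) := by
  obtain ⟨s, hs⟩ := Module.projective_lifting_property (Ideal.Quotient.mkₐ R I).toLinearMap
    (LinearMap.id : (B ⧸ I) →ₗ[R] (B ⧸ I)) Ideal.Quotient.mk_surjective
  have hs' : ∀ q, Ideal.Quotient.mk I (s q) = q := fun q => congr($hs q)
  let r : B →ₗ[R] I := LinearMap.codRestrict (I.restrictScalars R)
    (LinearMap.id - s.comp (Ideal.Quotient.mkₐ R I).toLinearMap) (by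
      intro b
      change b - s (Ideal.Quotient.mk I b) ∈ I
      rw [← Ideal.Quotient.eq_zero_iff_mem, map_sub, hs', sub_self])
  have hr : ∀ b, (r b : B) = b - s (Ideal.Quotient.mk I b) := fun b => rfl
  have hrI : ∀ (b : B) (hb : b ∈ I), r b = ⟨b, hb⟩ := by
    intro b hb
    apply Subtype.ext
    rw [hr, Ideal.Quotient.eq_zero_iff_mem.2 hb, map_zero, sub_zero]
  let F : B →ₗ[R] (B ⧸ I) × R := LinearMap.prod (Ideal.Quotient.mkₐ R I).toLinearMap (ψ.comp r)
  have hF : ∀ b, F b = (Ideal.Quotient.mk I b, ψ (r b)) := fun b => rfl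
  have hker : LinearMap.ker F = (kerI h).restrictScalars R := by
    ext b
    rw [LinearMap.mem_ker, hF, Prod.mk_eq_zero, Ideal.Quotient.eq_zero_iff_mem]
    constructor
    · rintro ⟨h1, h2⟩
      rw [hrI b h1] at h2
      exact ⟨h1, h2⟩
    · rintro ⟨h1, h2⟩
      refine ⟨h1, ?_⟩
      rw [hrI b h1]
      exact h2
  have hsurj : Function.Surjective F := by
    rintro ⟨q, c⟩
    obtain ⟨i, hi⟩ := hψ (c - ψ (r (s q)))
    refine ⟨s q + i, ?_⟩
    rw [hF, map_add, hs', Ideal.Quotient.eq_zero_iff_mem.2 i.2, add_zero, map_add, map_add, hrI i.1 i.2,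
      hi, add_sub_cancel]
  exact ⟨(Submodule.quotEquivOfEq _ _ hker.symm).trans (F.quotKerEquivOfSurjective hsurj)⟩

theorem finite_quot (h : SL y I ψ) (hψ : Function.Surjective ψ) [Module.Projective R (B ⧸ I)]
    [Module.Finite R (B ⧸ I)] : Module.Finite R (B ⧸ kerI h) := by
  obtain ⟨e⟩ := exists_equiv h hψ
  exact Module.Finite.equiv e.symm

theorem projective_quot (h : SL y I ψ) (hψ : Function.Surjective ψ) [Module.Projective R (B ⧸ I)] :
    Module.Projective R (B ⧸ kerI h) := by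
  obtain ⟨e⟩ := exists_equiv h hψ
  exact Module.Projective.of_equiv e.symm

theorem rank_quot (h : SL y I ψ) (hψ : Function.Surjective ψ) [Module.Projective R (B ⧸ I)]
    [Module.Finite R (B ⧸ I)] (n : ℕ) (hn : ∀ p, Module.rankAtStalk (R := R) (B ⧸ I) p = n)
    (p : PrimeSpectrum R) : Module.rankAtStalk (R := R) (B ⧸ kerI h) p = n + 1 := by
  obtain ⟨e⟩ := exists_equiv h hψ
  have : Nontrivial R := by
    rcases subsingleton_or_nontrivial R with hs | hs
    · exact absurd (by rw [Subsingleton.elim (1 : R) 0]; exact p.asIdeal.zero_mem) p.isPrime.one_notMem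
    · exact hs
  rw [Module.rankAtStalk_eq_of_equiv e, Module.rankAtStalk_prod, Pi.add_apply, hn,
    Module.rankAtStalk_self, Pi.one_apply]

end Ker

section Field

variable {K B : Type u} [Field K] [CommRing B] [Algebra K B] (y : B →ₐ[K] K)

/-- A nested ideal over a field comes from a functional. -/
theorem exists_functional (I I' : Ideal B) (hle : I' ≤ I) (hmul : I * RingHom.ker y ≤ I')
    [Module.Finite K (B ⧸ I')]
    (hrk : Module.finrank K (B ⧸ I') = Module.finrank K (B ⧸ I) + 1) :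
    ∃ ψ : I →ₗ[K] K, SL y I ψ ∧ Function.Surjective ψ ∧ ∀ i : I, ψ i = 0 ↔ (i : B) ∈ I' := by
  let π : (B ⧸ I') →ₗ[K] (B ⧸ I) := (Ideal.Quotient.factorₐ K hle).toLinearMap
  have hπ : Function.Surjective π := Ideal.Quotient.factor_surjective hle
  have hπmk : ∀ b, π (Ideal.Quotient.mk I' b) = Ideal.Quotient.mk I b := fun b => rfl
  have hker : Module.finrank K (LinearMap.ker π) = 1 := by
    have h1 := π.finrank_range_add_finrank_ker
    rw [LinearMap.range_eq_top.2 hπ, finrank_top] at h1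
    omega
  obtain ⟨e⟩ : Nonempty (LinearMap.ker π ≃ₗ[K] K) :=
    FiniteDimensional.nonempty_linearEquiv_of_finrank_eq (by rw [hker, Module.finrank_self])
  let g : I →ₗ[K] LinearMap.ker π := LinearMap.codRestrict _
    ((Ideal.Quotient.mkₐ K I').toLinearMap.comp (I.restrictScalars K).subtype) (by
      intro i
      rw [LinearMap.mem_ker]
      change π (Ideal.Quotient.mk I' i.1) = 0
      rw [hπmk]
      exact Ideal.Quotient.eq_zero_iff_mem.2 i.2)
  have hg : ∀ i : I, ((g i : LinearMap.ker π) : B ⧸ I') = Ideal.Quotient.mk I' i.1 := fun i => rfl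
  have hgs : Function.Surjective g := by
    rintro ⟨x, hx⟩
    obtain ⟨b, rfl⟩ := Ideal.Quotient.mk_surjective x
    rw [LinearMap.mem_ker, hπmk, Ideal.Quotient.eq_zero_iff_mem] at hx
    exact ⟨⟨b, hx⟩, Subtype.ext rfl⟩
  have hg0 : ∀ i : I, g i = 0 ↔ (i : B) ∈ I' := by
    intro i
    rw [← Ideal.Quotient.eq_zero_iff_mem, ← hg, ZeroMemClass.coe_eq_zero]
  refine ⟨e.toLinearMap.comp g, ?_, e.surjective.comp hgs, fun i => ?_⟩
  · intro b i
    have h1 : g (b • i) = g (y b • i) := by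
      rw [← sub_eq_zero, ← map_sub, hg0]
      have : ((b • i - y b • i : I) : B) = i.1 * (b - algebraMap K B (y b)) := by
        change b * i.1 - y b • i.1 = _
        rw [Algebra.smul_def]
        ring
      rw [this]
      refine hmul (Ideal.mul_mem_mul i.2 ?_)
      rw [RingHom.mem_ker, map_sub]
      simp
    rw [LinearMap.comp_apply, h1, map_smul, map_smul]
    rfl
  · rw [LinearMap.comp_apply, ← hg0]
    exact e.map_eq_zero_iff

/-- every nonzero finite subscheme over an algebraically closed field contains one of colength one. -/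
theorem exists_sub [IsAlgClosed K] (I' : Ideal B) (n : ℕ) [Module.Finite K (B ⧸ I')]
    (hrk : Module.finrank K (B ⧸ I') = n + 1) :
    ∃ (y : B →ₐ[K] K) (I : Ideal B), I' ≤ I ∧ I * RingHom.ker y ≤ I' ∧
      Module.Finite K (B ⧸ I) ∧ Module.finrank K (B ⧸ I) = n := by
  have hnt : Nontrivial (B ⧸ I') := Module.nontrivial_of_finrank_pos (R := K) (by omega)
  have hart : IsArtinianRing (B ⧸ I') := IsArtinianRing.of_finite K _
  obtain ⟨L, hL, -⟩ : ∃ L : Ideal (B ⧸ I'), IsAtom L ∧ L ≤ ⊤ := by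
    rcases eq_bot_or_exists_atom_le (⊤ : Ideal (B ⧸ I')) with h | h
    · exact absurd h top_ne_bot
    · exact h
  have hLs : IsSimpleModule (B ⧸ I') L := isSimpleModule_iff_isAtom.2 hL
  obtain ⟨m, hm, ⟨e⟩⟩ := isSimpleModule_iff_quot_maximal.1 hLs
  have hfin : Module.Finite K ((B ⧸ I') ⧸ m) := Module.Finite.of_surjective
    (Ideal.Quotient.mkₐ K m).toLinearMap Ideal.Quotient.mk_surjective
  letI : Field ((B ⧸ I') ⧸ m) := Ideal.Quotient.field m
  have hbij : Function.Bijective (algebraMap K ((B ⧸ I') ⧸ m)) :=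
    IsAlgClosed.algebraMap_bijective_of_isIntegral
  let ε : K ≃ₐ[K] ((B ⧸ I') ⧸ m) := AlgEquiv.ofBijective (Algebra.ofId K _) hbij
  let y : B →ₐ[K] K := ε.symm.toAlgHom.comp ((Ideal.Quotient.mkₐ K m).comp (Ideal.Quotient.mkₐ K I'))
  have hy : ∀ b, y b = 0 ↔ Ideal.Quotient.mk I' b ∈ m := by
    intro b
    rw [← Ideal.Quotient.eq_zero_iff_mem]
    exact ε.symm.map_eq_zero_iff
  refine ⟨y, L.comap (Ideal.Quotient.mk I'), ?_, ?_, ?_, ?_⟩
  · intro x hx
    rw [Ideal.mem_comap, Ideal.Quotient.eq_zero_iff_mem.2 hx]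
    exact L.zero_mem
  · rw [Ideal.mul_le]
    intro r hr s hs
    rw [Ideal.mem_comap] at hr
    have hs' : Ideal.Quotient.mk I' s ∈ m := (hy s).1 hs
    rw [← Ideal.Quotient.eq_zero_iff_mem, map_mul]
    have h1 : (Ideal.Quotient.mk I' s) • (⟨Ideal.Quotient.mk I' r, hr⟩ : L) = 0 := by
      apply e.injective
      rw [map_smul, map_zero]
      obtain ⟨c, hc⟩ := Ideal.Quotient.mk_surjective (e ⟨Ideal.Quotient.mk I' r, hr⟩)
      rw [← hc]
      exact Ideal.Quotient.eq_zero_iff_mem.2 (m.mul_mem_right c hs')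
    have h2 := congrArg Subtype.val h1
    rw [mul_comm]
    exact h2
  all_goals
    have hle : I' ≤ L.comap (Ideal.Quotient.mk I') := by
      intro x hx
      rw [Ideal.mem_comap, Ideal.Quotient.eq_zero_iff_mem.2 hx]
      exact L.zero_mem
  · exact Module.Finite.of_surjective (Ideal.Quotient.factorₐ K hle).toLinearMap
      (Ideal.Quotient.factor_surjective hle)
  · let π : (B ⧸ I') →ₗ[K] (B ⧸ L.comap (Ideal.Quotient.mk I')) := (Ideal.Quotient.factorₐ K hle).toLinearMap
    have hπ : Function.Surjective π := Ideal.Quotient.factor_surjective hle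
    have hπmk : ∀ b, π (Ideal.Quotient.mk I' b) = Ideal.Quotient.mk _ b := fun b => rfl
    have hker : LinearMap.ker π = L.restrictScalars K := by
      ext x
      obtain ⟨b, rfl⟩ := Ideal.Quotient.mk_surjective x
      rw [LinearMap.mem_ker, hπmk, Ideal.Quotient.eq_zero_iff_mem]
      rfl
    have h1 := π.finrank_range_add_finrank_ker
    rw [LinearMap.range_eq_top.2 hπ, finrank_top, hker, hrk] at h1
    have h2 : Module.finrank K (L.restrictScalars K) = 1 := by
      rw [← Module.finrank_self K]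
      exact LinearEquiv.finrank_eq ((e.restrictScalars K).trans ε.symm.toLinearEquiv)
    omega

end Field

section Val

variable {O B : Type u} [CommRing O] [IsDomain O] [ValuationRing O] [CommRing B] [Algebra O B]
  (y : B →ₐ[O] O) (I : Ideal B)

theorem smul_sub_mem (b : B) (i : B) (hi : i ∈ I) : b * i - y b • i ∈ I * RingHom.ker y := by
  have : b * i - y b • i = i * (b - algebraMap O B (y b)) := by
    rw [Algebra.smul_def]; ring
  rw [this]
  refine Ideal.mul_mem_mul hi ?_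
  rw [RingHom.mem_ker, map_sub]
  simp

/-- `I · ker y` inside `I`. -/
def NN : Submodule O I := ((I * RingHom.ker y).restrictScalars O).comap (I.restrictScalars O).subtype

theorem mem_NN (i : I) : i ∈ NN y I ↔ (i : B) ∈ I * RingHom.ker y := Iff.rfl

theorem finite_quot_NN (hI : I.FG) : Module.Finite O (I ⧸ NN y I) := by
  classical
  obtain ⟨s, hs⟩ := hI
  have hsI : ∀ g ∈ s, g ∈ I := fun g hg => by
    rw [← hs]; exact Ideal.subset_span hg
  refine ⟨⟨s.attach.image (fun g => (NN y I).mkQ ⟨g.1, hsI g.1 g.2⟩), ?_⟩⟩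
  rw [eq_top_iff]
  rintro x -
  obtain ⟨⟨i, hi⟩, rfl⟩ := (NN y I).mkQ_surjective x
  have hi' : i ∈ Submodule.span B (s : Set B) := by
    have : i ∈ I := hi
    rw [← hs] at this
    exact this
  induction hi' using Submodule.span_induction with
  | mem x hx =>
    refine Submodule.subset_span ?_
    simp only [Finset.coe_image, Set.mem_image, Finset.mem_coe, Finset.mem_attach, true_and,
      Subtype.exists]
    exact ⟨x, hx, rfl⟩
  | zero =>
    have : (⟨0, hi⟩ : I) = 0 := rfl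
    rw [this, map_zero]
    exact Submodule.zero_mem _
  | add a b ha hb iha ihb =>
    have ha' : a ∈ I := by rw [← hs]; exact ha
    have hb' : b ∈ I := by rw [← hs]; exact hb
    have : (⟨a + b, hi⟩ : I) = ⟨a, ha'⟩ + ⟨b, hb'⟩ := rfl
    rw [this, map_add]
    exact Submodule.add_mem _ (iha ha') (ihb hb')
  | smul c a ha iha =>
    have ha' : a ∈ I := by rw [← hs]; exact ha
    have : (NN y I).mkQ (⟨c • a, hi⟩ : I) = y c • (NN y I).mkQ ⟨a, ha'⟩ := by
      rw [← map_smul, ← sub_eq_zero, ← map_sub, Submodule.mkQ_apply, Submodule.Quotient.mk_eq_zero, mem_NN]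
      exact smul_sub_mem y I c a ha'
    rw [this]
    exact Submodule.smul_mem _ _ (iha ha')

/-- Existence of surjective semilinear functionals over a valuation ring. -/
theorem exists_functional_val (hI : I.FG)
    (hnt : ∃ i ∈ I, ∀ s : O, s ≠ 0 → s • i ∉ I * RingHom.ker y) :
    ∃ ψ : I →ₗ[O] O, SL y I ψ ∧ Function.Surjective ψ := by
  have hfin := finite_quot_NN y I hI
  let M := I ⧸ NN y I
  let M' := M ⧸ Submodule.torsion O M
  have hfin' : Module.Finite O M' := inferInstance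
  have hflat : Module.Flat O M' := by
    rw [Module.Flat.flat_iff_torsion_eq_bot_of_isBezout]
    exact Submodule.QuotientTorsion.torsion_eq_bot
  have hfree : Module.Free O M' := Module.free_of_flat_of_isLocalRing
  have hntr : Nontrivial M' := by
    obtain ⟨i, hi, hs⟩ := hnt
    refine ⟨⟨Submodule.Quotient.mk (Submodule.Quotient.mk ⟨i, hi⟩), 0, fun h => ?_⟩⟩
    rw [Submodule.Quotient.mk_eq_zero, Submodule.mem_torsion_iff] at h
    obtain ⟨a, ha⟩ := h
    refine hs a.1 (nonZeroDivisors.ne_zero a.2) ?_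
    have h2 : (Submodule.Quotient.mk (a.1 • ⟨i, hi⟩) : M) = 0 := ha
    rw [Submodule.Quotient.mk_eq_zero] at h2
    exact h2
  let b := Module.Free.chooseBasis O M'
  obtain ⟨j⟩ : Nonempty (Module.Free.ChooseBasisIndex O M') := b.index_nonempty
  have hb : Function.Surjective (b.coord j) := by
    intro c
    exact ⟨c • b j, by simp⟩
  let ψ : I →ₗ[O] O := (b.coord j).comp ((Submodule.mkQ _).comp (NN y I).mkQ)
  refine ⟨ψ, ?_, hb.comp ((Submodule.mkQ_surjective _).comp (Submodule.mkQ_surjective _))⟩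
  intro c i
  have : (NN y I).mkQ (c • i) = y c • (NN y I).mkQ i := by
    rw [← map_smul, ← sub_eq_zero, ← map_sub, Submodule.mkQ_apply, Submodule.Quotient.mk_eq_zero, mem_NN]
    exact smul_sub_mem y I c i.1 i.2
  change (b.coord j) (Submodule.mkQ _ ((NN y I).mkQ (c • i))) = _
  rw [this, map_smul, map_smul]
  rfl

end Val

section Path

variable {K B R' B' : Type u} [Field K] [CommRing B] [Algebra K B] [CommRing R'] [Algebra K R']
  [CommRing B'] [Algebra B B'] [Algebra R' B'] [Algebra K B'] [IsScalarTower K B B'] [IsScalarTower K R' B']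
  [Algebra.IsPushout K R' B B'] (y : B →ₐ[K] K) (y' : B' →ₐ[R'] R')
  (hy : ∀ b, y' (algebraMap B B' b) = algebraMap K R' (y b))

include hy in
/-- The family of functionals. -/
theorem exists_path_functional (I : Ideal B) (ψ₁ ψ₂ : I →ₗ[K] K) (h₁ : SL y I ψ₁) (h₂ : SL y I ψ₂)
    (i₀ : I) (hi₁ : ψ₁ i₀ = 1) (hi₂ : ψ₂ i₀ = 1) (t : R') :
    ∃ (ψ : I.map (algebraMap B B') →ₗ[R'] R'), SL y' (I.map (algebraMap B B')) ψ ∧ Function.Surjective ψ ∧
      ∀ (e : R' →+* K) (E : B' →+* B) (_ : ∀ c, e (algebraMap K R' c) = c)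
        (_ : ∀ b, E (algebraMap B B' b) = b) (_ : ∀ r, E (algebraMap R' B' r) = algebraMap K B (e r))
        (x : I.map (algebraMap B B')) (hx : E x ∈ I),
        e (ψ x) = (1 - e t) * ψ₁ ⟨E x, hx⟩ + e t * ψ₂ ⟨E x, hx⟩ := by
  have hbc : IsBaseChange R' (IsScalarTower.toAlgHom K B B').toLinearMap :=
    Algebra.IsPushout.out
  obtain ⟨f₁, hf₁⟩ := LinearMap.exists_extend (p := I.restrictScalars K) (ψ₁ : _ →ₗ[K] K)
  obtain ⟨f₂, hf₂⟩ := LinearMap.exists_extend (p := I.restrictScalars K) (ψ₂ : _ →ₗ[K] K)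
  have hf₁' : ∀ (b : B) (hb : b ∈ I), f₁ b = ψ₁ ⟨b, hb⟩ := fun b hb => congr($hf₁ ⟨b, hb⟩)
  have hf₂' : ∀ (b : B) (hb : b ∈ I), f₂ b = ψ₂ ⟨b, hb⟩ := fun b hb => congr($hf₂ ⟨b, hb⟩)
  let g : B →ₗ[K] R' := (LinearMap.lsmul K R' |>.flip (1 - t)).comp f₁ +
    (LinearMap.lsmul K R' |>.flip t).comp f₂
  have hg : ∀ b, g b = f₁ b • (1 - t) + f₂ b • t := fun b => rfl
  let G : B' →ₗ[R'] R' := hbc.lift g
  have hG : ∀ b, G (algebraMap B B' b) = f₁ b • (1 - t) + f₂ b • t := fun b => by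
    rw [← hg]; exact hbc.lift_eq g b
  have key : ∀ x ∈ I.map (algebraMap B B'), ∀ b', G (b' * x) = y' b' * G x := by
    intro x hx
    induction hx using Submodule.span_induction with
    | mem x hx =>
      obtain ⟨i, hi, rfl⟩ := hx
      intro b'
      induction b' using hbc.inductionOn with
      | zero => rw [zero_mul, map_zero, map_zero, zero_mul]
      | add a b ha hb => rw [add_mul, map_add, map_add, add_mul, ha, hb]
      | smul r a ha => rw [smul_mul_assoc, map_smul, map_smul, ha, smul_eq_mul, smul_eq_mul, mul_assoc]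
      | tmul b =>
        change G (algebraMap B B' b * algebraMap B B' i) = y' (algebraMap B B' b) * G (algebraMap B B' i)
        rw [← map_mul, hG, hG, hf₁' _ (I.mul_mem_left b hi), hf₂' _ (I.mul_mem_left b hi), hf₁' _ hi,
          hf₂' _ hi, hy]
        have e1 : (⟨b * i, I.mul_mem_left b hi⟩ : I) = b • ⟨i, hi⟩ := rfl
        rw [e1, h₁, h₂, mul_add, Algebra.smul_def, Algebra.smul_def, Algebra.smul_def, Algebra.smul_def,
          map_mul, map_mul, mul_assoc, mul_assoc]
    | zero => intro b'; rw [mul_zero, map_zero, mul_zero]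
    | add a b _ _ ha hb => intro b'; rw [mul_add, map_add, map_add, mul_add, ha, hb]
    | smul c a _ ha =>
      intro b'
      rw [smul_eq_mul, ← mul_assoc, ha, ha, map_mul, mul_assoc]
  let ψ : I.map (algebraMap B B') →ₗ[R'] R' := G.comp ((I.map (algebraMap B B')).restrictScalars R').subtype
  have hψ : ∀ x, ψ x = G x.1 := fun x => rfl
  have hSL : SL y' (I.map (algebraMap B B')) ψ := fun b i => key i.1 i.2 b
  refine ⟨ψ, hSL, ?_, ?_⟩
  · intro c
    refine ⟨c • ⟨algebraMap B B' i₀.1, Ideal.mem_map_of_mem _ i₀.2⟩, ?_⟩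
    rw [map_smul, hψ]
    change c • G (algebraMap B B' i₀.1) = c
    rw [hG, hf₁' _ i₀.2, hf₂' _ i₀.2]
    have : (⟨i₀.1, i₀.2⟩ : I) = i₀ := rfl
    rw [this, hi₁, hi₂, one_smul, one_smul, sub_add_cancel, smul_eq_mul, mul_one]
  · intro e E he hE hE' x hx
    rw [hψ, ← hf₁' _ hx, ← hf₂' _ hx]
    generalize x.1 = z
    induction z using hbc.inductionOn with
    | zero => simp
    | add a b ha hb => rw [map_add, map_add, ha, hb, map_add, map_add, map_add]; ring
    | smul r a ha =>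
      rw [map_smul, smul_eq_mul, map_mul, ha, Algebra.smul_def, map_mul, hE', ← Algebra.smul_def,
        map_smul, map_smul, smul_eq_mul, smul_eq_mul]
      ring
    | tmul b =>
      change e (G (algebraMap B B' b)) = (1 - e t) * f₁ (E (algebraMap B B' b)) +
        e t * f₂ (E (algebraMap B B' b))
      rw [hE, hG, map_add, Algebra.smul_def, Algebra.smul_def, map_mul, map_mul, he, he, map_sub, map_one]
      ring

end Path

/-- Two different semilinear functionals take the value one at a common element or are proportional. -/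
theorem exists_common {K V : Type u} [Field K] [AddCommGroup V] [Module K V] (ψ₁ ψ₂ : V →ₗ[K] K)
    (h₁ : Function.Surjective ψ₁) (h₂ : Function.Surjective ψ₂)
    (hne : ¬ ∀ v, ψ₁ v = 0 ↔ ψ₂ v = 0) : ∃ v, ψ₁ v = 1 ∧ ψ₂ v = 1 := by
  -- there are `a` with `ψ₁ a = 1`, `ψ₂ a = 0` and `b` with `ψ₁ b = 0`, `ψ₂ b = 1`.
  have hker : ∀ φ₁ φ₂ : V →ₗ[K] K, Function.Surjective φ₁ → Function.Surjective φ₂ →
      (∀ v, φ₂ v = 0 → φ₁ v = 0) → ∀ v, φ₁ v = 0 ↔ φ₂ v = 0 := by
    intro φ₁ φ₂ hs₁ hs₂ hle v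
    refine ⟨fun hv => ?_, hle v⟩
    obtain ⟨w, hw⟩ := hs₁ 1
    by_contra hv'
    have h := hle (w - (φ₂ w / φ₂ v) • v) (by
      rw [map_sub, map_smul, smul_eq_mul, div_mul_cancel₀ _ hv', sub_self])
    rw [map_sub, map_smul, hv, smul_zero, sub_zero, hw] at h
    exact one_ne_zero h
  obtain ⟨a, ha1, ha2⟩ : ∃ a, ψ₂ a = 0 ∧ ψ₁ a ≠ 0 := by
    by_contra hcon
    push Not at hcon
    exact hne (hker ψ₁ ψ₂ h₁ h₂ hcon)
  obtain ⟨b, hb1, hb2⟩ : ∃ b, ψ₁ b = 0 ∧ ψ₂ b ≠ 0 := by
    by_contra hcon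
    push Not at hcon
    exact hne (fun v => (hker ψ₂ ψ₁ h₂ h₁ hcon v).symm)
  refine ⟨(ψ₁ a)⁻¹ • a + (ψ₂ b)⁻¹ • b, ?_, ?_⟩
  · rw [map_add, map_smul, map_smul, hb1, smul_zero, add_zero, smul_eq_mul, inv_mul_cancel₀ ha2]
  · rw [map_add, map_smul, map_smul, ha1, smul_zero, zero_add, smul_eq_mul, inv_mul_cancel₀ hb2]

end K684.NestAlg
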