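import Groth.Agent.HilbD.K684.AffDict
import Groth.Agent.HilbD.K684.NestAlg

/-!
# Nested pairs in the Hilbert functors of an affine scheme
-/

set_option autoImplicit false
set_option linter.style.haveILetI false
set_option linter.unusedSectionVars false
open CategoryTheory CategoryTheory.Limits AlgebraicGeometry Groth.Agent
universe u

namespace K684.NestAff

open AffDict NestAlg Picfga.HilbPull Picfga.SecGraph

variable {X S : Scheme.{u}} (f : X ⟶ S)

/-- nested pair: `z' ⊇ z` as subschemes, residual point `y`. -/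
structure Nest {n : ℕ} {T : Over S} (y : T.left ⟶ X) (hy : y ≫ f = T.hom) (z : HilbD.Obj f n T)
    (z' : HilbD.Obj f (n + 1) T) : Prop where
  le : z'.1 ≤ z.1
  mul_le : z.1 * HilbD.secGraph f T y hy ≤ z'.1

theorem comap_mono {W W' : Scheme.{u}} (g : W' ⟶ W) {I J : W.IdealSheafData} (h : I ≤ J) :
    I.comap g ≤ J.comap g := by
  rw [← Scheme.IdealSheafData.le_map_iff_comap_le]
  exact h.trans (Scheme.IdealSheafData.le_map_comap J g)

variable {f} in
theorem Nest.pull [IsSeparated f] {n : ℕ} {T T' : Over S} (g : T' ⟶ T) {y : T.left ⟶ X} {hy : y ≫ f = T.hom}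
    {z : HilbD.Obj f n T} {z' : HilbD.Obj f (n + 1) T} (h : Nest f y hy z z') :
    Nest f (g.left ≫ y) (hx_comp f y g hy) (pullObj f g z) (pullObj f g z') where
  le := by
    rw [pullObj_val, pullObj_val, pull_eq_comap, pull_eq_comap]
    exact comap_mono _ h.le
  mul_le := by
    rw [← pull_secGraph f y hy g, pullObj_val, pullObj_val, ← pull_mul, pull_eq_comap, pull_eq_comap]
    exact comap_mono _ h.mul_le

section Aff

variable [IsAffine X] [IsAffine S] {R : CommRingCat.{u}} (t : Spec R ⟶ S)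

instance : IsAffine (PicF.XT f (Over.mk t)) := inferInstanceAs (IsAffine (pullback f t))

instance : IsAffine (Over.mk t).left := inferInstanceAs (IsAffine (Spec R))

/-- structure map. -/
noncomputable abbrev st : R ⟶ Γ(PicF.XT f (Over.mk t), ⊤) := str (R := R) (PicF.XTproj f (Over.mk t))

theorem obj_finRk {d : ℕ} (z : HilbD.Obj f d (Over.mk t)) : FinRk (st f t).hom d (idl z.1) :=
  (finLocFree_iff' (R := R) _ _ _).1 z.2

theorem exists_obj {d : ℕ} (a : Ideal Γ(PicF.XT f (Over.mk t), ⊤)) (h : FinRk (st f t).hom d a) :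
    ∃ z : HilbD.Obj f d (Over.mk t), idl z.1 = a := by
  obtain ⟨I, hI⟩ := exists_idl a
  refine ⟨⟨I, ?_⟩, hI⟩
  apply (finLocFree_iff' (R := R) _ _ _).2
  rw [hI]
  exact h

variable (y : Spec R ⟶ X) (hy : y ≫ f = t)

/-- evaluation at a section. -/
noncomputable abbrev ev : Γ(PicF.XT f (Over.mk t), ⊤) ⟶ R :=
  (sec f (Over.mk t) y hy).appTop ≫ (Scheme.ΓSpecIso R).hom

theorem st_ev : st f t ≫ ev f t y hy = 𝟙 R := by
  have h := sec_proj f (T := Over.mk t) y hy
  have h2 : (PicF.XTproj f (Over.mk t)).appTop ≫ (sec f (Over.mk t) y hy).appTop = 𝟙 _ := by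
    rw [← Scheme.Hom.comp_appTop, h]
    rfl
  rw [st, ev, str, Category.assoc, reassoc_of% h2]
  exact Iso.inv_hom_id _

theorem idl_secGraph : idl (HilbD.secGraph f (Over.mk t) y hy) = RingHom.ker (ev f t y hy).hom := by
  rw [secGraph_eq_ker, idl_ker]
  ext b
  rw [RingHom.mem_ker, RingHom.mem_ker, ev, CommRingCat.hom_comp, RingHom.comp_apply]
  exact (map_eq_zero_iff _ (Scheme.ΓSpecIso R).commRingCatIsoToRingEquiv.injective).symm

theorem exists_sec (η : Γ(PicF.XT f (Over.mk t), ⊤) ⟶ R) (h : st f t ≫ η = 𝟙 R) :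
    ∃ (y : Spec R ⟶ X) (hy : y ≫ f = t), ev f t y hy = η := by
  let s : Spec R ⟶ PicF.XT f (Over.mk t) := Spec.map η ≫ (PicF.XT f (Over.mk t)).isoSpec.inv
  have hs : s ≫ PicF.XTproj f (Over.mk t) = 𝟙 _ := by
    have h1 := toSpecΓ_str (R := R) (PicF.XTproj f (Over.mk t))
    have h2 : (PicF.XT f (Over.mk t)).isoSpec.inv ≫ PicF.XTproj f (Over.mk t) = Spec.map (st f t) := by
      rw [Iso.inv_comp_eq]
      exact h1.symm
    rw [Category.assoc]
    erw [h2]
    rw [← Spec.map_comp, h, Spec.map_id]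
  have hx : (s ≫ pullback.fst f t) ≫ f = t := by
    rw [Category.assoc, pullback.condition]
    have : s ≫ PicF.XTproj f (Over.mk t) ≫ t = t := by
      rw [← Category.assoc, hs]
      exact Category.id_comp _
    exact this
  refine ⟨s ≫ pullback.fst f t, hx, ?_⟩
  have hsec : sec f (Over.mk t) (s ≫ pullback.fst f t) hx = s := by
    apply pullback.hom_ext
    · exact sec_fst f (T := Over.mk t) _ hx
    · exact (sec_proj f (T := Over.mk t) _ hx).trans hs.symm
  rw [ev, hsec]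
  have h3 : s.appTop = (PicF.XT f (Over.mk t)).isoSpec.inv.appTop ≫ (Spec.map η).appTop :=
    Scheme.Hom.comp_appTop _ _
  rw [h3, Category.assoc, Scheme.ΓSpecIso_naturality]
  have h4 : (PicF.XT f (Over.mk t)).isoSpec.inv.appTop ≫ (Scheme.ΓSpecIso _).hom = 𝟙 _ := by
    rw [← Scheme.toSpecΓ_appTop]
    have : (PicF.XT f (Over.mk t)).isoSpec.inv.appTop ≫ (PicF.XT f (Over.mk t)).toSpecΓ.appTop = 𝟙 _ := by
      rw [← Scheme.Hom.comp_appTop]
      have : (PicF.XT f (Over.mk t)).toSpecΓ ≫ (PicF.XT f (Over.mk t)).isoSpec.inv = 𝟙 _ :=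
        (PicF.XT f (Over.mk t)).isoSpec.hom_inv_id
      rw [this]
      rfl
    exact this
  rw [← Category.assoc, h4, Category.id_comp]

/-! ### nested pairs and ideals -/

variable {f t y hy}

theorem nest_iff {n : ℕ} {z : HilbD.Obj f n (Over.mk t)} {z' : HilbD.Obj f (n + 1) (Over.mk t)} :
    Nest f (T := Over.mk t) y hy z z' ↔
      idl z'.1 ≤ idl z.1 ∧ idl z.1 * RingHom.ker (ev f t y hy).hom ≤ idl z'.1 := by
  rw [← idl_secGraph, ← idl_mul, idl_le_iff, idl_le_iff]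
  exact ⟨fun h => ⟨h.1, h.2⟩, fun h => ⟨h.1, h.2⟩⟩

/-- the algebra map `B → R` given by the section. -/
noncomputable def evA (t : Spec R ⟶ S) (y : Spec R ⟶ X) (hy : y ≫ f = t) :
    letI := (st f t).hom.toAlgebra; Γ(PicF.XT f (Over.mk t), ⊤) →ₐ[R] R :=
  letI := (st f t).hom.toAlgebra
  { (ev f t y hy).hom with
    commutes' := fun r => congr($(st_ev f t y hy).hom r) }

theorem exists_nest_of_functional {n : ℕ} (z : HilbD.Obj f n (Over.mk t)) :
    letI := (st f t).hom.toAlgebra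
    ∀ (ψ : idl z.1 →ₗ[R] R) (h : SL (evA t y hy) (idl z.1) ψ) (_ : Function.Surjective ψ),
    ∃ z' : HilbD.Obj f (n + 1) (Over.mk t), Nest f (T := Over.mk t) y hy z z' ∧ idl z'.1 = kerI h := by
  letI := (st f t).hom.toAlgebra
  intro ψ h hψ
  obtain ⟨h1, h2, h3⟩ := obj_finRk f t z
  obtain ⟨z', hz'⟩ := exists_obj f t (kerI h) (d := n + 1)
    ⟨finite_quot h hψ, projective_quot h hψ, rank_quot h hψ n h3⟩
  refine ⟨z', nest_iff.2 ?_, hz'⟩
  rw [hz']
  exact ⟨kerI_le h, mul_le_kerI h⟩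

/-! ### Base change -/

section BaseChange

variable {R' : CommRingCat.{u}} (γ : R ⟶ R') {t' : Spec R' ⟶ S} (w : Spec.map γ ≫ t = t')

/-- base change morphism -/
noncomputable abbrev bc : (Over.mk t' : Over S) ⟶ Over.mk t := Over.homMk (Spec.map γ) w

/-- ring map -/
noncomputable abbrev GG : Γ(PicF.XT f (Over.mk t), ⊤) ⟶ Γ(PicF.XT f (Over.mk t'), ⊤) :=
  (PicF.XTmap f (bc γ w)).appTop

theorem isPushout_GG : IsPushout (st f t) γ (GG (f := f) γ w) (st f t') :=
  isPushout_str (isPullback_XTmap f (bc γ w))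

theorem idl_pullObj {d : ℕ} (z : HilbD.Obj f d (Over.mk t)) :
    idl (pullObj f (bc γ w) z).1 = (idl z.1).map (GG (f := f) γ w).hom := by
  rw [pullObj_val, pull_eq_comap, idl_comap]

theorem GG_ev (hy' : (Spec.map γ ≫ y) ≫ f = t') :
    GG (f := f) γ w ≫ ev f t' (Spec.map γ ≫ y) hy' = ev f t y hy ≫ γ := by
  have h1 : (PicF.XTmap f (bc γ w)).appTop ≫ (sec f (Over.mk t') (Spec.map γ ≫ y) hy').appTop =
      (sec f (Over.mk t) y hy).appTop ≫ (Spec.map γ).appTop := by
    have h := sec_XTmap f (T := Over.mk t) y hy (bc γ w)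
    exact (Scheme.Hom.comp_appTop _ _).symm.trans
      ((congrArg Scheme.Hom.appTop h).trans (Scheme.Hom.comp_appTop _ _))
  rw [GG, ev, reassoc_of% h1, Scheme.ΓSpecIso_naturality, ev, Category.assoc]

end BaseChange

/-! ### The field case -/

theorem exists_nest_sub {K : Type u} [Field K] [IsAlgClosed K] (t : Spec (.of K) ⟶ S) {n : ℕ}
    (z' : HilbD.Obj f (n + 1) (Over.mk t)) :
    ∃ (y : Spec (.of K) ⟶ X) (hy : y ≫ f = t) (z : HilbD.Obj f n (Over.mk t)),
      Nest f (T := Over.mk t) y hy z z' := by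
  letI := (st f t).hom.toAlgebra
  obtain ⟨h1, h2, h3⟩ := obj_finRk f t z'
  have hrk : Module.finrank K (Γ(PicF.XT f (Over.mk t), ⊤) ⧸ idl z'.1) = n + 1 := by
    have := h3 ⊥
    rw [Module.rankAtStalk_eq_finrank_of_free] at this
    exact this
  have h1' : Module.Finite K (Γ(PicF.XT f (Over.mk t), ⊤) ⧸ idl z'.1) := h1
  obtain ⟨η, I, hI1, hI2, hI3, hI4⟩ := NestAlg.exists_sub (K := K) (idl z'.1) n hrk
  obtain ⟨y, hy, hev⟩ := exists_sec f t (CommRingCat.ofHom η.toRingHom) (by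
    ext r
    exact η.commutes r)
  obtain ⟨z, hz⟩ := exists_obj f t I (d := n) ⟨hI3, Module.Projective.of_free, fun p => by
    rw [Module.rankAtStalk_eq_finrank_of_free]
    exact hI4⟩
  refine ⟨y, hy, z, nest_iff.2 ?_⟩
  rw [hz, hev]
  exact ⟨hI1, hI2⟩

/-! ### The case of a valuation ring -/

theorem idl_fg [LocallyOfFinitePresentation f] {d : ℕ} (z : HilbD.Obj f d (Over.mk t)) : (idl z.1).FG := by
  letI := (st f t).hom.toAlgebra
  obtain ⟨h1, h2, h3⟩ := obj_finRk f t z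
  have hfp : (st f t).hom.FinitePresentation := by
    have h4 : LocallyOfFinitePresentation (PicF.XTproj f (Over.mk t)) :=
      inferInstanceAs (LocallyOfFinitePresentation (pullback.snd f t))
    rw [st, str, CommRingCat.hom_comp]
    exact ((PicF.XTproj f (Over.mk t)).finitePresentation_appTop).comp
      (RingHom.FinitePresentation.of_bijective (ConcreteCategory.bijective_of_isIso _))
  have hB : Algebra.FinitePresentation R Γ(PicF.XT f (Over.mk t), ⊤) := hfp
  have h1' : Module.Finite R (Γ(PicF.XT f (Over.mk t), ⊤) ⧸ idl z.1) := h1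
  have h2' : Module.Projective R (Γ(PicF.XT f (Over.mk t), ⊤) ⧸ idl z.1) := h2
  have : Module.FinitePresentation R (Γ(PicF.XT f (Over.mk t), ⊤) ⧸ idl z.1) :=
    Module.finitePresentation_of_projective _ _
  have h5 : Algebra.FinitePresentation R (Γ(PicF.XT f (Over.mk t), ⊤) ⧸ idl z.1) := inferInstance
  have h6 := Algebra.FinitePresentation.ker_fG_of_surjective (Ideal.Quotient.mkₐ R (idl z.1))
    Ideal.Quotient.mk_surjective
  have h7 : RingHom.ker (Ideal.Quotient.mkₐ R (idl z.1)).toRingHom = idl z.1 := by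
    ext b
    rw [RingHom.mem_ker]
    exact Ideal.Quotient.eq_zero_iff_mem
  rw [← h7]
  exact h6

/-- Existence of nested families over valuation rings. -/
theorem exists_nest_val [LocallyOfFinitePresentation f] {O : Type u} [CommRing O] [IsDomain O]
    [ValuationRing O] (t : Spec (.of O) ⟶ S) {n : ℕ} (z : HilbD.Obj f n (Over.mk t))
    (y : Spec (.of O) ⟶ X) (hy : y ≫ f = t)
    {R' : CommRingCat.{u}} (γ : .of O ⟶ R') {t' : Spec R' ⟶ S} (w : Spec.map γ ≫ t = t')
    (hγ : ∀ s : O, s ≠ 0 → IsUnit (γ.hom s)) (hy' : (Spec.map γ ≫ y) ≫ f = t')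
    (hnv : (pullObj f (bc γ w) z).1 * HilbD.secGraph f (Over.mk t') (Spec.map γ ≫ y) hy' ≠
      (pullObj f (bc γ w) z).1) :
    ∃ z' : HilbD.Obj f (n + 1) (Over.mk t), Nest f (T := Over.mk t) y hy z z' := by
  letI := (st f t).hom.toAlgebra
  obtain ⟨ψ, hψ, hψs⟩ := exists_functional_val (O := O) (evA t y hy) (idl z.1) (idl_fg z) (by
    by_contra hcon
    push Not at hcon
    apply hnv
    apply le_antisymm
    · exact fun _ => Ideal.mul_le_left
    · rw [← idl_le_iff, idl_mul, idl_secGraph, idl_pullObj, Ideal.map_le_iff_le_comap]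
      intro i hi
      obtain ⟨s, hs, his⟩ := hcon i hi
      rw [Ideal.mem_comap]
      have h1 : (GG (f := f) γ w).hom (s • i) = (st f t').hom (γ.hom s) * (GG (f := f) γ w).hom i := by
        rw [Algebra.smul_def, map_mul]
        congr 1
        exact congr($((isPushout_GG (f := f) γ w).w).hom s)
      obtain ⟨v, hv⟩ := (hγ s hs).map (st f t').hom
      have h2 : (GG (f := f) γ w).hom i = ↑v⁻¹ * (GG (f := f) γ w).hom (s • i) := by
        rw [h1, ← hv, ← mul_assoc, Units.inv_mul, one_mul]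
      rw [h2]
      refine Ideal.mul_mem_left _ _ ?_
      have h3 : (idl z.1 * RingHom.ker (evA t y hy)).map (GG (f := f) γ w).hom ≤
          (idl z.1).map (GG (f := f) γ w).hom * RingHom.ker (ev f t' (Spec.map γ ≫ y) hy').hom := by
        rw [Ideal.map_mul]
        refine Ideal.mul_mono le_rfl ?_
        rw [Ideal.map_le_iff_le_comap]
        intro b hb
        rw [Ideal.mem_comap, RingHom.mem_ker]
        have h4 : (ev f t y hy).hom b = 0 := hb
        have h5 := congr($(GG_ev (f := f) (y := y) (hy := hy) γ w hy').hom b)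
        refine h5.trans ?_
        rw [CommRingCat.hom_comp, RingHom.comp_apply, h4, map_zero]
      exact h3 (Ideal.mem_map_of_mem _ his))
  obtain ⟨z', hz', -⟩ := exists_nest_of_functional (hy := hy) z ψ hψ hψs
  exact ⟨z', hz'⟩

/-! ### Paths -/

theorem exists_nest_of_functional' {n : ℕ} (z : HilbD.Obj f n (Over.mk t))
    (a : Ideal Γ(PicF.XT f (Over.mk t), ⊤)) (ha : idl z.1 = a) :
    letI := (st f t).hom.toAlgebra
    ∀ (ψ : a →ₗ[R] R) (h : SL (evA t y hy) a ψ) (_ : Function.Surjective ψ),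
    ∃ z' : HilbD.Obj f (n + 1) (Over.mk t), Nest f (T := Over.mk t) y hy z z' ∧ idl z'.1 = kerI h := by
  subst ha
  exact exists_nest_of_functional z

theorem finrank_obj {K : Type u} [Field K] (t : Spec (.of K) ⟶ S) {d : ℕ} (z : HilbD.Obj f d (Over.mk t)) :
    letI := (st f t).hom.toAlgebra
    Module.Finite K (Γ(PicF.XT f (Over.mk t), ⊤) ⧸ idl z.1) ∧
      Module.finrank K (Γ(PicF.XT f (Over.mk t), ⊤) ⧸ idl z.1) = d := by
  letI := (st f t).hom.toAlgebra
  obtain ⟨h1, h2, h3⟩ := obj_finRk f t z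
  refine ⟨h1, ?_⟩
  have := h3 ⊥
  rw [Module.rankAtStalk_eq_finrank_of_free] at this
  exact this

theorem eq_of_le_field {K : Type u} [Field K] (t : Spec (.of K) ⟶ S) {d : ℕ}
    {z w : HilbD.Obj f d (Over.mk t)} (h : idl z.1 ≤ idl w.1) : z = w := by
  letI := (st f t).hom.toAlgebra
  obtain ⟨hz1, hz2⟩ := finrank_obj t z
  obtain ⟨hw1, hw2⟩ := finrank_obj t w
  apply Subtype.ext
  apply idl_injective
  refine le_antisymm h ?_
  let π : (Γ(PicF.XT f (Over.mk t), ⊤) ⧸ idl z.1) →ₗ[K] (Γ(PicF.XT f (Over.mk t), ⊤) ⧸ idl w.1) :=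
    (Ideal.Quotient.factorₐ K h).toLinearMap
  have hπ : Function.Surjective π := Ideal.Quotient.factor_surjective h
  have hinj : Function.Injective π :=
    (LinearMap.injective_iff_surjective_of_finrank_eq_finrank (hz2.trans hw2.symm)).2 hπ
  intro b hb
  rw [← Ideal.Quotient.eq_zero_iff_mem]
  apply hinj
  rw [map_zero]
  exact Ideal.Quotient.eq_zero_iff_mem.2 hb

theorem GG_comp_eq_id {R' : CommRingCat.{u}} (γ : R ⟶ R') {t' : Spec R' ⟶ S} (w : Spec.map γ ≫ t = t')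
    (δ : R' ⟶ R) (w' : Spec.map δ ≫ t' = t) (h : γ ≫ δ = 𝟙 R) :
    GG (f := f) γ w ≫ GG (f := f) δ w' = 𝟙 _ := by
  have h1 : bc δ w' ≫ bc γ w = 𝟙 (Over.mk t) := by
    ext
    change Spec.map δ ≫ Spec.map γ = 𝟙 _
    rw [← Spec.map_comp, h, Spec.map_id]
  rw [GG, GG, ← Scheme.Hom.comp_appTop, ← XTmap_comp, h1, XTmap_id]
  rfl

/-- Two nested extensions lie in a family over the affine line. -/
theorem exists_path {K : Type u} [Field K] (t : Spec (.of K) ⟶ S) {n : ℕ} {y : Spec (.of K) ⟶ X}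
    {hy : y ≫ f = t} {z : HilbD.Obj f n (Over.mk t)} {z₁ z₂ : HilbD.Obj f (n + 1) (Over.mk t)}
    (h₁ : Nest f (T := Over.mk t) y hy z z₁) (h₂ : Nest f (T := Over.mk t) y hy z z₂)
    (γ : CommRingCat.of K ⟶ .of (Polynomial K)) (hγ : γ = CommRingCat.ofHom (algebraMap K (Polynomial K)))
    (e₀ e₁ : CommRingCat.of (Polynomial K) ⟶ .of K)
    (he₀ : e₀ = CommRingCat.ofHom (Polynomial.evalRingHom 0))
    (he₁ : e₁ = CommRingCat.ofHom (Polynomial.evalRingHom 1))
    {t₁ : Spec (.of (Polynomial K)) ⟶ S} (w : Spec.map γ ≫ t = t₁)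
    (w₀ : Spec.map e₀ ≫ t₁ = t) (w₁ : Spec.map e₁ ≫ t₁ = t) :
    ∃ z' : HilbD.Obj f (n + 1) (Over.mk t₁), pullObj f (bc e₀ w₀) z' = z₁ ∧
      pullObj f (bc e₁ w₁) z' = z₂ := by
  have hc₀ : γ ≫ e₀ = 𝟙 _ := by
    subst hγ he₀
    ext c
    simp
  have hc₁ : γ ≫ e₁ = 𝟙 _ := by
    subst hγ he₁
    ext c
    simp
  have hcomp : ∀ (δ : CommRingCat.of (Polynomial K) ⟶ .of K) (w' : Spec.map δ ≫ t₁ = t)
      (_ : γ ≫ δ = 𝟙 _), bc δ w' ≫ bc γ w = 𝟙 (Over.mk t) := by
    intro δ w' h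
    ext
    change Spec.map δ ≫ Spec.map γ = 𝟙 _
    rw [← Spec.map_comp, h, Spec.map_id]
  by_cases heq : z₁ = z₂
  · subst heq
    exact ⟨pullObj f (bc γ w) z₁, by rw [← pullObj_comp, hcomp _ w₀ hc₀, pullObj_id],
      by rw [← pullObj_comp, hcomp _ w₁ hc₁, pullObj_id]⟩
  letI := (st f t).hom.toAlgebra
  obtain ⟨hf1, hr1⟩ := finrank_obj t z₁
  obtain ⟨hf2, hr2⟩ := finrank_obj t z₂
  obtain ⟨hf, hr⟩ := finrank_obj t z
  rw [nest_iff] at h₁ h₂
  obtain ⟨ψ₁, hs₁, hsu₁, hk₁⟩ := NestAlg.exists_functional (K := K) (evA t y hy) (idl z.1) (idl z₁.1) h₁.1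
    h₁.2 (by rw [hr1, hr])
  obtain ⟨ψ₂, hs₂, hsu₂, hk₂⟩ := NestAlg.exists_functional (K := K) (evA t y hy) (idl z.1) (idl z₂.1) h₂.1
    h₂.2 (by rw [hr2, hr])
  obtain ⟨i₀, hi₁, hi₂⟩ := exists_common ψ₁ ψ₂ hsu₁ hsu₂ (by
    intro hcon
    apply heq
    apply eq_of_le_field
    intro b hb
    have := (hcon ⟨b, h₁.1 hb⟩).1 ((hk₁ _).2 hb)
    exact (hk₂ _).1 this)
  letI a1 := (st f t₁).hom.toAlgebra
  letI a2 := (GG (f := f) γ w).hom.toAlgebra
  letI a3 : Algebra K Γ(PicF.XT f (Over.mk t₁), ⊤) := (st f t ≫ GG (f := f) γ w).hom.toAlgebra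
  have hγ' : ∀ c, γ.hom c = algebraMap K (Polynomial K) c := by
    subst hγ
    intro c
    rfl
  have st1 : IsScalarTower K Γ(PicF.XT f (Over.mk t), ⊤) Γ(PicF.XT f (Over.mk t₁), ⊤) :=
    IsScalarTower.of_algebraMap_eq fun _ => rfl
  have st2 : IsScalarTower K (Polynomial K) Γ(PicF.XT f (Over.mk t₁), ⊤) :=
    IsScalarTower.of_algebraMap_eq fun c => by
      change (st f t ≫ GG (f := f) γ w).hom c = (st f t₁).hom (algebraMap K (Polynomial K) c)
      rw [(isPushout_GG (f := f) γ w).w, ← hγ']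
      rfl
  have hpo : Algebra.IsPushout K (Polynomial K) Γ(PicF.XT f (Over.mk t), ⊤) Γ(PicF.XT f (Over.mk t₁), ⊤) := by
    have h1 := (isPushout_GG (f := f) γ w).flip
    have h2 : IsPushout (CommRingCat.ofHom (algebraMap K (Polynomial K))) (st f t) (st f t₁)
        (GG (f := f) γ w) := by
      rw [← hγ]
      exact h1
    exact CommRingCat.isPushout_iff_isPushout.1 h2
  obtain ⟨ψ, hψ, hψs, hform⟩ := exists_path_functional (K := K) (R' := Polynomial K) (evA t y hy)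
    (evA t₁ (Spec.map γ ≫ y) (by rw [Category.assoc, hy, w])) (fun b => by
      have := congr($(GG_ev (f := f) (y := y) (hy := hy) γ w (by rw [Category.assoc, hy, w])).hom b)
      rw [← hγ']
      exact this) (idl z.1) ψ₁ ψ₂ hs₁ hs₂ i₀ hi₁ hi₂ Polynomial.X
  obtain ⟨z', -, hz'⟩ := exists_nest_of_functional' (pullObj f (bc γ w) z) _ (idl_pullObj γ w z) ψ hψ hψs
  have main : ∀ (δ : CommRingCat.of (Polynomial K) ⟶ .of K) (w' : Spec.map δ ≫ t₁ = t)
      (_ : γ ≫ δ = 𝟙 _) (x : Γ(PicF.XT f (Over.mk t₁), ⊤)), x ∈ idl z'.1 →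
      ∃ hx : (GG (f := f) δ w').hom x ∈ idl z.1, 0 = (1 - δ.hom Polynomial.X) * ψ₁ ⟨_, hx⟩ +
        δ.hom Polynomial.X * ψ₂ ⟨_, hx⟩ := by
    intro δ w' hδ x hx
    rw [hz', mem_kerI] at hx
    obtain ⟨hx1, hx2⟩ := hx
    have hid := GG_comp_eq_id (f := f) γ w δ w' hδ
    have hx3 : (GG (f := f) δ w').hom x ∈ idl z.1 := by
      have : ((idl z.1).map (GG (f := f) γ w).hom).map (GG (f := f) δ w').hom = idl z.1 := by
        rw [Ideal.map_map, ← CommRingCat.hom_comp, hid]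
        exact Ideal.map_id _
      rw [← this]
      exact Ideal.mem_map_of_mem _ hx1
    refine ⟨hx3, ?_⟩
    rw [← hform δ.hom (GG (f := f) δ w').hom (fun c => by
        rw [← hγ']
        exact congr($(hδ).hom c)) (fun b => congr($(hid).hom b)) (fun r =>
        congr($((isPushout_GG (f := f) δ w').w).hom r)) ⟨x, hx1⟩ hx3, hx2, map_zero]
  refine ⟨z', ?_, ?_⟩
  · apply eq_of_le_field
    rw [idl_pullObj, Ideal.map_le_iff_le_comap]
    intro x hx
    obtain ⟨hx1, hx2⟩ := main e₀ w₀ hc₀ x hx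
    have h0 : e₀.hom Polynomial.X = 0 := by
      subst he₀
      simp
    rw [h0, sub_zero, one_mul, zero_mul, add_zero] at hx2
    exact (hk₁ _).1 hx2.symm
  · apply eq_of_le_field
    rw [idl_pullObj, Ideal.map_le_iff_le_comap]
    intro x hx
    obtain ⟨hx1, hx2⟩ := main e₁ w₁ hc₁ x hx
    have h0 : e₁.hom Polynomial.X = 1 := by
      subst he₁
      simp
    rw [h0, sub_self, one_mul, zero_mul, zero_add] at hx2
    exact (hk₂ _).1 hx2.symm

end Aff

end K684.NestAff
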