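import Groth.Agent.HilbD.K684.NestAff
import Groth.Agent.Picfga.HilbRep

/-!
# Nested pairs in the Hilbert functors: general schemes
-/

set_option autoImplicit false
set_option linter.style.haveILetI false
set_option linter.unusedSectionVars false
open CategoryTheory CategoryTheory.Limits AlgebraicGeometry Groth.Agent
universe u

namespace K684.NestPush

open NestAff Picfga Picfga.HilbPull Picfga.SecGraph Picfga.OpenPush

variable {X S U : Scheme.{u}} (f : X ⟶ S) (j : U ⟶ X)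

/-- `U ×_S T ⟶ X ×_S T`. -/
noncomputable def kp (T : Over S) : PicF.XT (j ≫ f) T ⟶ PicF.XT f T :=
  pullback.map (j ≫ f) T.hom f T.hom j (𝟙 _) (𝟙 _) (by simp) (by simp)

@[reassoc]
theorem kp_fst (T : Over S) : kp f j T ≫ pullback.fst f T.hom = pullback.fst (j ≫ f) T.hom ≫ j :=
  pullback.lift_fst _ _ _

@[reassoc]
theorem kp_snd (T : Over S) : kp f j T ≫ PicF.XTproj f T = PicF.XTproj (j ≫ f) T :=
  (pullback.lift_snd _ _ _).trans (Category.comp_id _)

theorem isPullback_kp (T : Over S) :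
    IsPullback (kp f j T) (pullback.fst (j ≫ f) T.hom) (pullback.fst f T.hom) j := by
  have h1 : IsPullback (PicF.XTproj (j ≫ f) T) (pullback.fst (j ≫ f) T.hom) T.hom (j ≫ f) :=
    (IsPullback.of_hasPullback (j ≫ f) T.hom).flip
  rw [← kp_snd f j] at h1
  exact IsPullback.of_right h1 (kp_fst f j T) (IsPullback.of_hasPullback f T.hom).flip

instance (T : Over S) [IsOpenImmersion j] : IsOpenImmersion (kp f j T) :=
  MorphismProperty.of_isPullback (P := @IsOpenImmersion) (isPullback_kp f j T).flip inferInstance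

theorem kp_XTmap {T T' : Over S} (g : T' ⟶ T) :
    PicF.XTmap (j ≫ f) g ≫ kp f j T = kp f j T' ≫ PicF.XTmap f g := by
  apply pullback.hom_ext
  · rw [Category.assoc, Category.assoc, kp_fst, XTmap_fst_assoc, XTmap_fst, kp_fst]
  · change (PicF.XTmap (j ≫ f) g ≫ kp f j T) ≫ PicF.XTproj f T =
      (kp f j T' ≫ PicF.XTmap f g) ≫ PicF.XTproj f T
    rw [Category.assoc, Category.assoc, kp_snd, XTmap_snd, XTmap_snd, kp_snd_assoc]

theorem isPullback_kp_XTmap {T T' : Over S} (g : T' ⟶ T) :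
    IsPullback (PicF.XTmap (j ≫ f) g) (kp f j T') (kp f j T) (PicF.XTmap f g) := by
  have h1 := isPullback_XTmap (j ≫ f) g
  rw [← kp_snd f j, ← kp_snd f j] at h1
  exact IsPullback.of_bot h1 (kp_XTmap f j g) (isPullback_XTmap f g)

section Push

variable [IsSeparated f] [IsOpenImmersion j] {d : ℕ}

theorem isClosedImmersion_subschemeι_kp {T : Over S} (I : HilbD.Obj (j ≫ f) d T) :
    IsClosedImmersion (I.1.subschemeι ≫ kp f j T) := by
  apply isClosedImmersion_comp (kp f j T) (PicF.XTproj f T)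
  rw [kp_snd]
  exact I.2.1.1

/-- The pushforward `Hilb^d_{U/S}(T) ⟶ Hilb^d_{X/S}(T)`. -/
noncomputable def pushO {T : Over S} (I : HilbD.Obj (j ≫ f) d T) : HilbD.Obj f d T :=
  ⟨push (kp f j T) I.1, by
    have := isClosedImmersion_subschemeι_kp f j I
    obtain ⟨e, he, h⟩ := exists_iso_push (kp f j T) I.1
    rw [← h, Category.assoc, Category.assoc, kp_snd]
    exact isFinLocFreeOfDeg_comp_iso I.2⟩

theorem comap_pushO {T : Over S} (I : HilbD.Obj (j ≫ f) d T) :
    (pushO f j I).1.comap (kp f j T) = I.1 := by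
  have := isClosedImmersion_subschemeι_kp f j I
  exact comap_push _ _

theorem pushO_injective {T : Over S} {I J : HilbD.Obj (j ≫ f) d T} (h : pushO f j I = pushO f j J) :
    I = J := by
  apply Subtype.ext
  rw [← comap_pushO f j I, ← comap_pushO f j J, h]

theorem pullObj_pushO {T T' : Over S} (g : T' ⟶ T) (I : HilbD.Obj (j ≫ f) d T) :
    pullObj f g (pushO f j I) = pushO f j (pullObj (j ≫ f) g I) := by
  apply Subtype.ext
  have := isClosedImmersion_subschemeι_kp f j I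
  have h2 := comap_push_of_isPullback (kp f j T) (isPullback_kp_XTmap f j g) I.1
  rw [← pull_eq_comap, ← pull_eq_comap] at h2
  exact h2

omit [IsSeparated f] in
theorem mem_range_kp {T : Over S} (p : PicF.XT f T) (h : pullback.fst f T.hom p ∈ Set.range j) :
    p ∈ Set.range (kp f j T) := by
  obtain ⟨y, hy⟩ := h
  obtain ⟨w, hw, -⟩ := Scheme.exists_preimage_of_isPullback (isPullback_kp f j T) p y hy.symm
  exact ⟨w, hw⟩

/-- An object of `Hilb^d_{X/S}(T)` whose points all lie over `U` comes from `Hilb^d_{U/S}`. -/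
theorem exists_eq_pushO {T : Over S} (J : HilbD.Obj f d T)
    (h : ∀ z : J.1.subscheme, (J.1.subschemeι ≫ pullback.fst f T.hom) z ∈ Set.range j) :
    ∃ I : HilbD.Obj (j ≫ f) d T, pushO f j I = J := by
  have h2 : ∀ z : J.1.subscheme, J.1.subschemeι z ∈ Set.range (kp f j T) := fun z =>
    mem_range_kp f j _ (h z)
  let e : J.1.subscheme ⟶ PicF.XT (j ≫ f) T := IsOpenImmersion.lift (kp f j T) J.1.subschemeι
    (by rintro _ ⟨z, rfl⟩; exact h2 z)
  have he : e ≫ kp f j T = J.1.subschemeι := IsOpenImmersion.lift_fac _ _ _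
  obtain ⟨m, hm, hm'⟩ := exists_iso_comap_of_factors (kp f j T) e he
  refine ⟨⟨J.1.comap (kp f j T), ?_⟩, Subtype.ext (eq_push_of_factors (kp f j T) e he).symm⟩
  rw [← kp_snd f j, ← reassoc_of% hm']
  exact isFinLocFreeOfDeg_comp_iso J.2

theorem comap_secGraph {T : Over S} (y : T.left ⟶ U) (hy : y ≫ j ≫ f = T.hom)
    (hy' : (y ≫ j) ≫ f = T.hom) :
    (HilbD.secGraph f T (y ≫ j) hy').comap (kp f j T) = HilbD.secGraph (j ≫ f) T y hy := by
  rw [secGraph_eq_ker, secGraph_eq_ker]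
  have h1 : sec (j ≫ f) T y hy ≫ kp f j T = sec f T (y ≫ j) hy' := by
    apply pullback.hom_ext
    · rw [Category.assoc, kp_fst, sec_fst_assoc, sec_fst]
    · change (sec (j ≫ f) T y hy ≫ kp f j T) ≫ PicF.XTproj f T = sec f T (y ≫ j) hy' ≫ PicF.XTproj f T
      rw [Category.assoc, kp_snd, sec_proj, sec_proj]
  have h2 : IsPullback (𝟙 T.left) (sec (j ≫ f) T y hy) (sec f T (y ≫ j) hy') (kp f j T) := by
    refine IsPullback.of_isLimit' ⟨by rw [h1, Category.id_comp]⟩ ?_
    refine PullbackCone.IsLimit.mk _ (fun s => s.fst) (fun s => by simp) (fun s => ?_)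
      (fun s m hm _ => by simpa using hm)
    rw [← cancel_mono (kp f j T), Category.assoc, h1, s.condition]
  exact (ker_eq_comap_of_isPullback h2).symm

/-- pushing forward nested pairs. -/
theorem nest_pushO {n : ℕ} {T : Over S} {y : T.left ⟶ U} {hy : y ≫ j ≫ f = T.hom}
    (hy' : (y ≫ j) ≫ f = T.hom) {z : HilbD.Obj (j ≫ f) n T} {z' : HilbD.Obj (j ≫ f) (n + 1) T}
    (h : Nest (j ≫ f) y hy z z') : Nest f (y ≫ j) hy' (pushO f j z) (pushO f j z') where
  le := Scheme.IdealSheafData.map_mono _ h.le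
  mul_le := by
    change _ ≤ z'.1.map (kp f j T)
    rw [Scheme.IdealSheafData.le_map_iff_comap_le, Divis.IdealComap.comap_mul, comap_pushO,
      comap_secGraph f j y hy]
    exact h.mul_le

/-- restricting nested pairs. -/
theorem nest_of_pushO {n : ℕ} {T : Over S} {y : T.left ⟶ U} {hy : y ≫ j ≫ f = T.hom}
    {hy' : (y ≫ j) ≫ f = T.hom} {z : HilbD.Obj (j ≫ f) n T} {z' : HilbD.Obj (j ≫ f) (n + 1) T}
    (h : Nest f (y ≫ j) hy' (pushO f j z) (pushO f j z')) : Nest (j ≫ f) y hy z z' where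
  le := by
    have := comap_mono (kp f j T) h.le
    rwa [comap_pushO, comap_pushO] at this
  mul_le := by
    have := comap_mono (kp f j T) h.mul_le
    rwa [comap_pushO, Divis.IdealComap.comap_mul, comap_pushO, comap_secGraph f j y hy] at this

end Push

/-! ### Supports -/

section Supp

/-- the closed subscheme lies over `V`. -/
def InU (V : X.Opens) {T : Over S} (I : (PicF.XT f T).IdealSheafData) : Prop :=
  ∀ p ∈ I.support, pullback.fst f T.hom p ∈ V

variable {f} {V : X.Opens} {T : Over S}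

theorem InU.mul {I J : (PicF.XT f T).IdealSheafData} (hI : InU f V I) (hJ : InU f V J) :
    InU f V (I * J) := by
  intro p hp
  rw [Scheme.IdealSheafData.support_mul] at hp
  rcases hp with hp | hp
  · exact hI p hp
  · exact hJ p hp

theorem InU.mono {I J : (PicF.XT f T).IdealSheafData} (hI : InU f V I) (h : I ≤ J) : InU f V J :=
  fun p hp => hI p (Scheme.IdealSheafData.support_antitone h hp)

theorem inU_iff {I : (PicF.XT f T).IdealSheafData} :
    InU f V I ↔ ∀ z : I.subscheme, (I.subschemeι ≫ pullback.fst f T.hom) z ∈ V := by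
  constructor
  · intro h z
    rw [Scheme.Hom.comp_apply]
    apply h
    have : I.subschemeι z ∈ Set.range I.subschemeι := ⟨z, rfl⟩
    rwa [Scheme.IdealSheafData.range_subschemeι] at this
  · intro h p hp
    have : p ∈ Set.range I.subschemeι := by
      rw [Scheme.IdealSheafData.range_subschemeι]
      exact hp
    obtain ⟨z, rfl⟩ := this
    exact h z

theorem InU.pull {d : ℕ} {T' : Over S} (g : T' ⟶ T) {z : HilbD.Obj f d T} (h : InU f V z.1) :
    InU f V (pullObj f g z).1 := by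
  rw [inU_iff] at h ⊢
  intro p
  obtain ⟨m, -, hm⟩ := HilbRep.exists_map_pullObj g z
  have h2 : m ≫ z.1.subschemeι ≫ pullback.fst f T.hom =
    (pullObj f g z).1.subschemeι ≫ pullback.fst f T'.hom := hm
  rw [← h2, Scheme.Hom.comp_apply]
  exact h _

theorem inU_secGraph [IsSeparated f] (y : T.left ⟶ X) (hy : y ≫ f = T.hom) (h : ∀ τ, y τ ∈ V) :
    InU f V (HilbD.secGraph f T y hy) := by
  rw [secGraph_eq_ker, inU_iff]
  obtain ⟨e, he, h'⟩ := exists_iso_ker_subscheme (sec f T y hy)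
  intro z
  have h2 : (Scheme.Hom.ker (sec f T y hy)).subschemeι ≫ pullback.fst f T.hom = e ≫ y := by
    rw [← h', Category.assoc, sec_fst]
  rw [h2]
  exact h _

theorem eq_map_comap {I : (PicF.XT f T).IdealSheafData} (h : InU f V I) :
    I = (I.comap (kp f V.ι T)).map (kp f V.ι T) := by
  refine eq_push_of_range_subset (kp f V.ι T) fun z => ?_
  apply mem_range_kp f V.ι
  have := inU_iff.1 h z
  simpa using this

theorem le_of_comap_le {I J : (PicF.XT f T).IdealSheafData} (hJ : InU f V J)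
    (h : I.comap (kp f V.ι T) ≤ J.comap (kp f V.ι T)) : I ≤ J := by
  rw [eq_map_comap hJ, Scheme.IdealSheafData.le_map_iff_comap_le]
  exact h

theorem exists_lift {Y : Scheme.{u}} (y : Y ⟶ X) (h : ∀ τ, y τ ∈ V) : ∃ y' : Y ⟶ V.toScheme, y' ≫ V.ι = y :=
  ⟨IsOpenImmersion.lift V.ι y (by rintro _ ⟨z, rfl⟩; simpa using h z), IsOpenImmersion.lift_fac _ _ _⟩

theorem exists_obj_of_inU [IsSeparated f] {d : ℕ} (z : HilbD.Obj f d T) (h : InU f V z.1) :
    ∃ z' : HilbD.Obj (V.ι ≫ f) d T, pushO f V.ι z' = z :=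
  exists_eq_pushO f V.ι z (fun p => by simpa using inU_iff.1 h p)

end Supp

/-- any finite set of points lies in an affine open. -/
def FA (X : Scheme.{u}) : Prop := ∀ s : Set X, s.Finite → ∃ V : X.Opens, IsAffineOpen V ∧ s ⊆ V

section Main

variable {f} [IsSeparated f]

omit [IsSeparated f] in
theorem finite_fibre {d : ℕ} {T : Over S} (z : HilbD.Obj f d T) (τ : T.left) :
    {x | ∃ p : z.1.subscheme, (z.1.subschemeι ≫ PicF.XTproj f T) p = τ ∧
      (z.1.subschemeι ≫ pullback.fst f T.hom) p = x}.Finite := by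
  obtain ⟨hfin, -⟩ := Groth.Agent.Picfga.FibreCard.ncard_preimage_le (z.1.subschemeι ≫ PicF.XTproj f T) z.2 τ
  refine (hfin.image (z.1.subschemeι ≫ pullback.fst f T.hom)).subset ?_
  rintro x ⟨p, hp, rfl⟩
  exact ⟨p, hp, rfl⟩

/-- a neighbourhood of the fibre of `z` and `y` over a point of a local scheme. -/
theorem exists_inU (hFA : FA X) {d : ℕ} {T : Over S} (τ : T.left) (hτ : ∀ τ' : T.left, τ' ⤳ τ)
    (z : HilbD.Obj f d T) (y : T.left ⟶ X) (hy : y ≫ f = T.hom) :
    ∃ V : X.Opens, IsAffineOpen V ∧ InU f V z.1 ∧ ∀ τ', y τ' ∈ V := by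
  obtain ⟨V, hV, hs⟩ := hFA _ ((finite_fibre z τ).union (Set.finite_singleton (y τ)))
  have hopen : ∀ O : T.left.Opens, τ ∈ O → ∀ τ', τ' ∈ O := fun O hO τ' => (hτ τ').mem_open O.2 hO
  refine ⟨V, hV, ?_, ?_⟩
  · have h1 : τ ∈ HilbRep.good V z := by
      rw [HilbRep.mem_good]
      intro p hp
      exact hs (Or.inl ⟨p, hp, rfl⟩)
    rw [inU_iff]
    intro p
    exact (HilbRep.mem_good V z _).1 (hopen _ h1 (HilbRep.sm z p)) p rfl
  · exact hopen (y ⁻¹ᵁ V) (hs (Or.inr rfl))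

variable [IsAffine S]

theorem nest_inU {n : ℕ} {T : Over S} {y : T.left ⟶ X} {hy : y ≫ f = T.hom} {z : HilbD.Obj f n T}
    {z' : HilbD.Obj f (n + 1) T} (h : Nest f y hy z z') {V : X.Opens} (hz : InU f V z.1)
    (hyV : ∀ τ, y τ ∈ V) : InU f V z'.1 :=
  (hz.mul (inU_secGraph y hy hyV)).mono h.mul_le

/-- Two nested extensions over a field lie in a family over the affine line. -/
theorem exists_path (hFA : FA X) {K : Type u} [Field K] (t : Spec (.of K) ⟶ S) {n : ℕ}
    {y : Spec (.of K) ⟶ X}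
    {hy : y ≫ f = t} {z : HilbD.Obj f n (Over.mk t)} {z₁ z₂ : HilbD.Obj f (n + 1) (Over.mk t)}
    (h₁ : Nest f (T := Over.mk t) y hy z z₁) (h₂ : Nest f (T := Over.mk t) y hy z z₂)
    (γ : CommRingCat.of K ⟶ .of (Polynomial K)) (hγ : γ = CommRingCat.ofHom (algebraMap K (Polynomial K)))
    (e₀ e₁ : CommRingCat.of (Polynomial K) ⟶ .of K)
    (he₀ : e₀ = CommRingCat.ofHom (Polynomial.evalRingHom 0))
    (he₁ : e₁ = CommRingCat.ofHom (Polynomial.evalRingHom 1))
    {t₁ : Spec (.of (Polynomial K)) ⟶ S} (w : Spec.map γ ≫ t = t₁)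
    (w₀ : Spec.map e₀ ≫ t₁ = t) (w₁ : Spec.map e₁ ≫ t₁ = t) :
    ∃ z' : HilbD.Obj f (n + 1) (Over.mk t₁), pullObj f (bc e₀ w₀) z' = z₁ ∧
      pullObj f (bc e₁ w₁) z' = z₂ := by
  obtain ⟨V, hV, hzV, hyV⟩ := exists_inU hFA (T := Over.mk t) (IsLocalRing.closedPoint K)
    (fun τ' => by
      have : τ' = IsLocalRing.closedPoint K := Subsingleton.elim (α := PrimeSpectrum K) _ _
      exact specializes_of_eq this) z y hy
  have : IsAffine V.toScheme := hV
  obtain ⟨zU, rfl⟩ := exists_obj_of_inU z hzV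
  obtain ⟨z₁U, rfl⟩ := exists_obj_of_inU z₁ (nest_inU h₁ hzV hyV)
  obtain ⟨z₂U, rfl⟩ := exists_obj_of_inU z₂ (nest_inU h₂ hzV hyV)
  obtain ⟨yU, rfl⟩ := exists_lift y hyV
  have hyU : yU ≫ V.ι ≫ f = t := by rw [← Category.assoc]; exact hy
  obtain ⟨z', hz₁, hz₂⟩ := NestAff.exists_path (f := V.ι ≫ f) t
    (nest_of_pushO f V.ι (T := Over.mk t) (hy := hyU) h₁)
    (nest_of_pushO f V.ι (T := Over.mk t) (hy := hyU) h₂) γ hγ e₀ e₁ he₀ he₁ w w₀ w₁
  refine ⟨pushO f V.ι z', ?_, ?_⟩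
  · rw [pullObj_pushO, hz₁]
  · rw [pullObj_pushO, hz₂]

/-- every family of degree `n+1` over an algebraically closed field is nested over something. -/
theorem exists_nest_sub (hFA : FA X) {K : Type u} [Field K] [IsAlgClosed K] (t : Spec (.of K) ⟶ S) {n : ℕ}
    (z' : HilbD.Obj f (n + 1) (Over.mk t)) :
    ∃ (y : Spec (.of K) ⟶ X) (hy : y ≫ f = t) (z : HilbD.Obj f n (Over.mk t)),
      Nest f (T := Over.mk t) y hy z z' := by
  obtain ⟨V, hV, hs⟩ := hFA _ (finite_fibre z' (IsLocalRing.closedPoint K))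
  have : IsAffine V.toScheme := hV
  have hz'V : InU f V z'.1 := by
    rw [inU_iff]
    intro p
    exact hs ⟨p, Subsingleton.elim (α := PrimeSpectrum K) _ _, rfl⟩
  obtain ⟨z'U, rfl⟩ := exists_obj_of_inU z' hz'V
  obtain ⟨y, hy, z, h⟩ := NestAff.exists_nest_sub (f := V.ι ≫ f) t z'U
  exact ⟨y ≫ V.ι, by rw [Category.assoc]; exact hy, pushO f V.ι z, nest_pushO f V.ι _ h⟩

theorem pushO_mul_ne {n : ℕ} {T : Over S} {V : X.Opens} {y : T.left ⟶ V.toScheme}
    {hy : y ≫ V.ι ≫ f = T.hom} {hy' : (y ≫ V.ι) ≫ f = T.hom} {z : HilbD.Obj (V.ι ≫ f) n T}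
    (hz : InU f V (pushO f V.ι z).1)
    (h : z.1 * HilbD.secGraph (V.ι ≫ f) T y hy = z.1) :
    (pushO f V.ι z).1 * HilbD.secGraph f T (y ≫ V.ι) hy' = (pushO f V.ι z).1 := by
  apply le_antisymm
  · exact fun _ => Ideal.mul_le_left
  · apply le_of_comap_le (V := V)
    · refine hz.mul (inU_secGraph _ hy' fun τ => ?_)
      rw [Scheme.Hom.comp_apply]
      exact (y τ).2
    · rw [Divis.IdealComap.comap_mul, comap_pushO, comap_secGraph f V.ι y hy, h]

/-- Existence of nested families over valuation rings. -/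
theorem exists_nest_val (hFA : FA X) [LocallyOfFinitePresentation f] {O : Type u} [CommRing O] [IsDomain O]
    [ValuationRing O] (t : Spec (.of O) ⟶ S) {n : ℕ} (z : HilbD.Obj f n (Over.mk t))
    (y : Spec (.of O) ⟶ X) (hy : y ≫ f = t)
    {R' : CommRingCat.{u}} (γ : .of O ⟶ R') {t' : Spec R' ⟶ S} (w : Spec.map γ ≫ t = t')
    (hγ : ∀ s : O, s ≠ 0 → IsUnit (γ.hom s)) (hy' : (Spec.map γ ≫ y) ≫ f = t')
    (hnv : (pullObj f (bc γ w) z).1 * HilbD.secGraph f (Over.mk t') (Spec.map γ ≫ y) hy' ≠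
      (pullObj f (bc γ w) z).1) :
    ∃ z' : HilbD.Obj f (n + 1) (Over.mk t), Nest f (T := Over.mk t) y hy z z' := by
  obtain ⟨V, hV, hzV, hyV⟩ := exists_inU hFA (T := Over.mk t) (IsLocalRing.closedPoint O)
    (fun τ' => IsLocalRing.specializes_closedPoint (R := O) τ') z y hy
  have : IsAffine V.toScheme := hV
  obtain ⟨zU, rfl⟩ := exists_obj_of_inU z hzV
  obtain ⟨yU, rfl⟩ := exists_lift y hyV
  have hyU : yU ≫ V.ι ≫ f = t := by rw [← Category.assoc]; exact hy
  have hyU' : (Spec.map γ ≫ yU) ≫ V.ι ≫ f = t' := by rw [Category.assoc, hyU, w]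
  have hnv' : (pullObj (V.ι ≫ f) (bc γ w) zU).1 *
      HilbD.secGraph (V.ι ≫ f) (Over.mk t') (Spec.map γ ≫ yU) hyU' ≠
        (pullObj (V.ι ≫ f) (bc γ w) zU).1 := by
    intro hcon
    have hzV' : InU f V (pushO f V.ι (pullObj (V.ι ≫ f) (bc γ w) zU)).1 := by
      rw [← pullObj_pushO]
      exact hzV.pull (bc γ w)
    have h3 := pushO_mul_ne (T := Over.mk t') (hy := hyU')
      (hy' := by rw [Category.assoc]; exact hyU') hzV' hcon
    apply hnv
    rw [pullObj_pushO]
    exact h3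
  obtain ⟨z', hz'⟩ := NestAff.exists_nest_val (f := V.ι ≫ f) t zU yU hyU γ w hγ hyU' hnv'
  exact ⟨pushO f V.ι z', nest_pushO f V.ι (T := Over.mk t) hy hz'⟩

end Main

end K684.NestPush
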