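import Groth.Agent.HilbD.K684.NestPush
import Mathlib.AlgebraicGeometry.ValuativeCriterion

/-!
# Connectedness of Hilbert schemes of points: the topological argument
-/

set_option autoImplicit false
set_option linter.style.haveILetI false
set_option linter.unusedSectionVars false
open CategoryTheory CategoryTheory.Limits AlgebraicGeometry Groth.Agent
universe u

namespace K684.NestTop

open NestAff NestPush Picfga.HilbPull Picfga.SecGraph IsLocalRing

/-- A specialization is witnessed by a valuation ring. -/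
theorem exists_valuation {Y : Scheme.{u}} {x y : Y} (h : x ⤳ y) :
    ∃ (O K : Type u) (_ : CommRing O) (_ : IsDomain O) (_ : ValuationRing O) (_ : Field K)
      (_ : Algebra O K) (_ : IsFractionRing O K) (β : Spec (.of O) ⟶ Y),
      β (closedPoint O) = y ∧
        (Spec.map (CommRingCat.ofHom (algebraMap O K)) ≫ β) (closedPoint K) = x := by
  let φ : Y.presheaf.stalk y ⟶ Y.residueField x := Y.presheaf.stalkSpecializes h ≫ Y.residue x
  obtain ⟨A, hA, hA_local⟩ := exists_factor_valuationRing φ.hom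
  let ψ : Y.presheaf.stalk y ⟶ .of A := CommRingCat.ofHom (φ.hom.codRestrict _ hA)
  refine ⟨A, Y.residueField x, inferInstance, inferInstance, inferInstance, inferInstance, inferInstance,
    inferInstance, Spec.map ψ ≫ Y.fromSpecStalk y, ?_, ?_⟩
  · rw [Scheme.Hom.comp_apply]
    have : Spec.map ψ (closedPoint A) = closedPoint (Y.presheaf.stalk y) :=
      comap_closedPoint (S := A) (φ.hom.codRestrict A.toSubring hA)
    rw [this, Y.fromSpecStalk_closedPoint]
  · have w : Spec.map (CommRingCat.ofHom (algebraMap A (Y.residueField x))) ≫ Spec.map ψ ≫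
        Y.fromSpecStalk y = Y.fromSpecResidueField x := by
      rw [Scheme.fromSpecResidueField, ← Scheme.SpecMap_stalkSpecializes_fromSpecStalk h]
      simp_rw [← Spec.map_comp_assoc]
      rfl
    rw [w]
    exact Scheme.fromSpecResidueField_apply x _

/-- Two field valued points over the same point have a common field extension. -/
theorem exists_common_field {Y : Scheme.{u}} {K₁ K₂ : Type u} [Field K₁] [Field K₂]
    (β₁ : Spec (.of K₁) ⟶ Y) (β₂ : Spec (.of K₂) ⟶ Y)
    (h : β₁ (closedPoint K₁) = β₂ (closedPoint K₂)) :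
    ∃ (L : Type u) (_ : Field L) (γ₁ : CommRingCat.of K₁ ⟶ .of L) (γ₂ : CommRingCat.of K₂ ⟶ .of L),
      Spec.map γ₁ ≫ β₁ = Spec.map γ₂ ≫ β₂ := by
  obtain ⟨p, -, -⟩ := Scheme.Pullback.exists_preimage_pullback (f := β₁) (g := β₂) _ _ h
  let q := (pullback β₁ β₂).fromSpecResidueField p
  obtain ⟨γ₁, hγ₁⟩ := Spec.map_surjective (q ≫ pullback.fst β₁ β₂)
  obtain ⟨γ₂, hγ₂⟩ := Spec.map_surjective (q ≫ pullback.snd β₁ β₂)
  refine ⟨(pullback β₁ β₂).residueField p, inferInstance, γ₁, γ₂, ?_⟩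
  have h1 : Spec.map γ₁ ≫ β₁ = Spec.map γ₂ ≫ β₂ := by
    rw [hγ₁, hγ₂, Category.assoc, Category.assoc, pullback.condition]
  exact h1

section NB

variable {X S : Scheme.{u}} (f : X ⟶ S) {n : ℕ} {H H' : Over S} (Z : HilbD.Obj f n H)
  (Z' : HilbD.Obj f (n + 1) H')

/-- The pair `(β, h')` is nested. -/
def NB {R : CommRingCat.{u}} (β : Spec R ⟶ PicF.XT f H) (h' : Spec R ⟶ H'.left) : Prop :=
  ∃ (t : Spec R ⟶ S) (y : Spec R ⟶ X) (hy : y ≫ f = t) (h : Over.mk t ⟶ H) (h'' : Over.mk t ⟶ H'),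
    y = β ≫ pullback.fst f H.hom ∧ h.left = β ≫ PicF.XTproj f H ∧ h''.left = h' ∧
      Nest f (T := Over.mk t) y hy (pullObj f h Z) (pullObj f h'' Z')

variable {f Z Z'}

theorem NB.pull [IsSeparated f] {R R' : CommRingCat.{u}} (γ : R ⟶ R') {β : Spec R ⟶ PicF.XT f H}
    {h' : Spec R ⟶ H'.left} (hN : NB f Z Z' β h') : NB f Z Z' (Spec.map γ ≫ β) (Spec.map γ ≫ h') := by
  obtain ⟨t, y, hy, h, h'', hy1, hh, hh', hN⟩ := hN
  refine ⟨Spec.map γ ≫ t, Spec.map γ ≫ y, by rw [Category.assoc, hy], bc γ rfl ≫ h, bc γ rfl ≫ h'', ?_, ?_,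
    ?_, ?_⟩
  · rw [hy1, Category.assoc]
  · rw [Over.comp_left, hh, Category.assoc]
    rfl
  · rw [Over.comp_left, hh']
    rfl
  · rw [pullObj_comp, pullObj_comp]
    exact hN.pull (bc γ rfl)

/-- existence of the data for a point of `X ×_S H`. -/
theorem exists_data {R : CommRingCat.{u}} (β : Spec R ⟶ PicF.XT f H) :
    ∃ (t : Spec R ⟶ S) (y : Spec R ⟶ X) (_ : y ≫ f = t) (h : Over.mk t ⟶ H),
      y = β ≫ pullback.fst f H.hom ∧ h.left = β ≫ PicF.XTproj f H := by
  refine ⟨β ≫ pullback.fst f H.hom ≫ f, β ≫ pullback.fst f H.hom, by rw [Category.assoc],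
    Over.homMk (β ≫ PicF.XTproj f H) ?_, rfl, rfl⟩
  change (β ≫ PicF.XTproj f H) ≫ H.hom = β ≫ pullback.fst f H.hom ≫ f
  rw [Category.assoc, pullback.condition]

variable [IsSeparated f] [IsAffine S] (hFA : FA X)

include hFA in
/-- Two nested extensions over a field are joined by a line. -/
theorem NB.path (hZ' : HilbD.IsUniversal f (n + 1) H' Z') {K : Type u} [Field K]
    {β : Spec (.of K) ⟶ PicF.XT f H} {h₁ h₂ : Spec (.of K) ⟶ H'.left} (hN₁ : NB f Z Z' β h₁)
    (hN₂ : NB f Z Z' β h₂) :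
    ∃ (P : Spec (.of (Polynomial K)) ⟶ H'.left) (e₀ e₁ : CommRingCat.of (Polynomial K) ⟶ .of K),
      Spec.map e₀ ≫ P = h₁ ∧ Spec.map e₁ ≫ P = h₂ := by
  obtain ⟨t, y, hy, h, g₁, hy1, hh, rfl, hN₁⟩ := hN₁
  obtain ⟨t₂, y₂, hy₂, h₂, g₂, hy1₂, hh₂, rfl, hN₂⟩ := hN₂
  obtain rfl : t = t₂ := by rw [← hy, ← hy₂, hy1, hy1₂]
  obtain rfl : y = y₂ := by rw [hy1, hy1₂]
  obtain rfl : h = h₂ := by
    ext
    rw [hh, hh₂]
  let γ : CommRingCat.of K ⟶ .of (Polynomial K) := CommRingCat.ofHom (algebraMap K (Polynomial K))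
  let e₀ : CommRingCat.of (Polynomial K) ⟶ .of K := CommRingCat.ofHom (Polynomial.evalRingHom 0)
  let e₁ : CommRingCat.of (Polynomial K) ⟶ .of K := CommRingCat.ofHom (Polynomial.evalRingHom 1)
  have hc₀ : γ ≫ e₀ = 𝟙 _ := by
    ext c
    simp [γ, e₀]
  have hc₁ : γ ≫ e₁ = 𝟙 _ := by
    ext c
    simp [γ, e₁]
  obtain ⟨z', hz₁, hz₂⟩ := NestPush.exists_path hFA t hN₁ hN₂ γ rfl e₀ e₁ rfl rfl (t₁ := Spec.map γ ≫ t)
    rfl (by rw [← Category.assoc, ← Spec.map_comp, hc₀, Spec.map_id, Category.id_comp])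
    (by rw [← Category.assoc, ← Spec.map_comp, hc₁, Spec.map_id, Category.id_comp])
  obtain ⟨P, hP, -⟩ := hZ' _ z'
  have hP' : pullObj f P Z' = z' := Subtype.ext hP
  refine ⟨P.left, e₀, e₁, ?_, ?_⟩
  · have := hom_ext_of_isUniversal hZ' (T := Over.mk t) (a := bc e₀ (by
      rw [← Category.assoc, ← Spec.map_comp, hc₀, Spec.map_id, Category.id_comp]) ≫ P) (b := g₁) (by
        have h3 := congrArg Subtype.val hz₁
        rw [← hP', ← pullObj_comp] at h3
        exact h3)
    rw [← this]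
    rfl
  · have := hom_ext_of_isUniversal hZ' (T := Over.mk t) (a := bc e₁ (by
      rw [← Category.assoc, ← Spec.map_comp, hc₁, Spec.map_id, Category.id_comp]) ≫ P) (b := g₂) (by
        have h3 := congrArg Subtype.val hz₂
        rw [← hP', ← pullObj_comp] at h3
        exact h3)
    rw [← this]
    rfl

/-- "never full support" condition -/
def NV (f : X ⟶ S) (n : ℕ) : Prop := ∀ (K : Type u) [Field K] (t : Spec (.of K) ⟶ S) (y : Spec (.of K) ⟶ X)
  (hy : y ≫ f = t) (z : HilbD.Obj f n (Over.mk t)), z.1 * HilbD.secGraph f (Over.mk t) y hy ≠ z.1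

include hFA in
theorem exists_NB_val [LocallyOfFinitePresentation f] (hNV : NV f n)
    (hZ' : HilbD.IsUniversal f (n + 1) H' Z') {O : Type u} [CommRing O] [IsDomain O] [ValuationRing O]
    (β : Spec (.of O) ⟶ PicF.XT f H) : ∃ h' : Spec (.of O) ⟶ H'.left, NB f Z Z' β h' := by
  obtain ⟨t, y, hy, h, hy1, hh⟩ := exists_data β
  let K := FractionRing O
  obtain ⟨z', hz'⟩ := NestPush.exists_nest_val hFA t (pullObj f h Z) y hy
    (CommRingCat.ofHom (algebraMap O K)) rfl (fun s hs => by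
      rw [isUnit_iff_ne_zero]
      change algebraMap O K s ≠ 0
      simpa using hs) (by rw [Category.assoc, hy]) (hNV K _ _ _ _)
  obtain ⟨g, hg, -⟩ := hZ' _ z'
  have hg' : pullObj f g Z' = z' := Subtype.ext hg
  refine ⟨g.left, t, y, hy, h, g, hy1, hh, rfl, ?_⟩
  rw [hg']
  exact hz'

include hFA in
theorem exists_NB_sub (hZ : HilbD.IsUniversal f n H Z) {K : Type u} [Field K] [IsAlgClosed K]
    (h' : Spec (.of K) ⟶ H'.left) : ∃ β : Spec (.of K) ⟶ PicF.XT f H, NB f Z Z' β h' := by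
  let t := h' ≫ H'.hom
  let g : Over.mk t ⟶ H' := Over.homMk h' rfl
  obtain ⟨y, hy, z, hz⟩ := NestPush.exists_nest_sub hFA t (pullObj f g Z')
  obtain ⟨h, hh, -⟩ := hZ _ z
  have hh' : pullObj f h Z = z := Subtype.ext hh
  refine ⟨pullback.lift y h.left (by rw [hy]; exact (Over.w h).symm), t, y, hy, h, g, ?_, ?_, rfl, ?_⟩
  · rw [pullback.lift_fst]
  · exact (pullback.lift_snd _ _ _).symm
  · rw [hh']
    exact hz

/-! ### The decomposition -/

/-- points of `X ×_S H` with a nested extension in `V`. -/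
def DD (Z : HilbD.Obj f n H) (Z' : HilbD.Obj f (n + 1) H') (V : Set H'.left) : Set (PicF.XT f H) :=
  {b | ∃ (K : Type u) (_ : Field K) (β : Spec (.of K) ⟶ PicF.XT f H) (h' : Spec (.of K) ⟶ H'.left),
    β (closedPoint K) = b ∧ NB f Z Z' β h' ∧ h' (closedPoint K) ∈ V}

include hFA in
theorem mem_clopen_of_path (hZ' : HilbD.IsUniversal f (n + 1) H' Z') {K : Type u} [Field K]
    {β : Spec (.of K) ⟶ PicF.XT f H} {h₁ h₂ : Spec (.of K) ⟶ H'.left} (hN₁ : NB f Z Z' β h₁)
    (hN₂ : NB f Z Z' β h₂) {V : Set H'.left} (hV : IsClopen V) (h : h₁ (closedPoint K) ∈ V) :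
    h₂ (closedPoint K) ∈ V := by
  obtain ⟨P, e₀, e₁, h0, h1⟩ := hN₁.path hFA hZ' hN₂
  have hcl : IsClopen (P ⁻¹' V) := hV.preimage P.continuous
  have : P ⁻¹' V = Set.univ := hcl.eq_univ ⟨Spec.map e₀ (closedPoint K), by
    rw [Set.mem_preimage, ← Scheme.Hom.comp_apply, h0]; exact h⟩
  have h2 : Spec.map e₁ (closedPoint K) ∈ P ⁻¹' V := by rw [this]; trivial
  rw [Set.mem_preimage, ← Scheme.Hom.comp_apply, h1] at h2
  exact h2

include hFA in
theorem DD_disjoint (hZ' : HilbD.IsUniversal f (n + 1) H' Z') {V : Set H'.left} (hV : IsClopen V)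
    {b : PicF.XT f H} (h₁ : b ∈ DD Z Z' V) (h₂ : b ∈ DD Z Z' Vᶜ) : False := by
  obtain ⟨K₁, _, β₁, g₁, rfl, hN₁, hV₁⟩ := h₁
  obtain ⟨K₂, _, β₂, g₂, hb, hN₂, hV₂⟩ := h₂
  obtain ⟨L, _, γ₁, γ₂, hγ⟩ := exists_common_field β₁ β₂ hb.symm
  have hN₁' := hN₁.pull γ₁
  have hN₂' := hN₂.pull γ₂
  rw [← hγ] at hN₂'
  have hp : ∀ {K : Type u} [Field K] (γ : CommRingCat.of K ⟶ .of L) (g : Spec (.of K) ⟶ H'.left),
      (Spec.map γ ≫ g) (closedPoint L) = g (closedPoint K) := by
    intro K _ γ g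
    rw [Scheme.Hom.comp_apply]
    congr 1
    exact Subsingleton.elim (α := PrimeSpectrum K) _ _
  have := mem_clopen_of_path hFA hZ' hN₁' hN₂' hV (by rw [hp]; exact hV₁)
  rw [hp] at this
  exact hV₂ this

include hFA in
theorem DD_union [LocallyOfFinitePresentation f] (hNV : NV f n)
    (hZ' : HilbD.IsUniversal f (n + 1) H' Z') (V : Set H'.left) (b : PicF.XT f H) :
    b ∈ DD Z Z' V ∨ b ∈ DD Z Z' Vᶜ := by
  let K := (PicF.XT f H).residueField b
  let β : Spec (.of K) ⟶ PicF.XT f H := (PicF.XT f H).fromSpecResidueField b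
  obtain ⟨h', hN⟩ := exists_NB_val hFA hNV hZ' (Z := Z) (O := K) β
  have hb : β (closedPoint K) = b := Scheme.fromSpecResidueField_apply b _
  by_cases h : h' (closedPoint K) ∈ V
  · exact Or.inl ⟨K, inferInstance, β, h', hb, hN, h⟩
  · exact Or.inr ⟨K, inferInstance, β, h', hb, hN, h⟩

include hFA in
theorem DD_specializes [LocallyOfFinitePresentation f] (hNV : NV f n)
    (hZ' : HilbD.IsUniversal f (n + 1) H' Z') {V : Set H'.left} (hV : IsClopen V)
    {x y : PicF.XT f H} (h : x ⤳ y) (hx : x ∈ DD Z Z' V) : y ∈ DD Z Z' V := by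
  obtain ⟨O, K, _, _, _, _, _, _, β, hβ, hβ'⟩ := exists_valuation h
  obtain ⟨h', hN⟩ := exists_NB_val hFA hNV hZ' (Z := Z) β
  let ι : CommRingCat.of O ⟶ .of K := CommRingCat.ofHom (algebraMap O K)
  let κ : CommRingCat.of O ⟶ .of (ResidueField O) := CommRingCat.ofHom (residue O)
  have hcl : IsClopen (h' ⁻¹' V) := hV.preimage h'.continuous
  have h1 : (Spec.map ι ≫ h') (closedPoint K) ∈ V := by
    by_contra hcon
    exact DD_disjoint hFA hZ' hV hx ⟨K, inferInstance, Spec.map ι ≫ β, Spec.map ι ≫ h', hβ', hN.pull ι, hcon⟩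
  have h2 : h' ⁻¹' V = Set.univ := hcl.eq_univ ⟨Spec.map ι (closedPoint K), h1⟩
  have h3 : Spec.map κ (closedPoint (ResidueField O)) = closedPoint O :=
    comap_closedPoint (S := ResidueField O) (residue O)
  refine ⟨ResidueField O, inferInstance, Spec.map κ ≫ β, Spec.map κ ≫ h', ?_, hN.pull κ, ?_⟩
  · rw [Scheme.Hom.comp_apply, h3, hβ]
  · rw [Scheme.Hom.comp_apply]
    have : Spec.map κ (closedPoint (ResidueField O)) ∈ h' ⁻¹' V := by rw [h2]; trivial
    exact this

end NB

/-! ### Topology -/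

theorem isClosed_noeth {U : Type u} [TopologicalSpace U] [TopologicalSpace.NoetherianSpace U] [QuasiSober U]
    (D : Set U) (h1 : ∀ x y, x ⤳ y → x ∈ D → y ∈ D) (h2 : ∀ x y, x ⤳ y → y ∈ D → x ∈ D) : IsClosed D := by
  have hfin := TopologicalSpace.NoetherianSpace.finite_irreducibleComponents (α := U)
  have : D = ⋃ C ∈ {C ∈ irreducibleComponents U | C ⊆ D}, C := by
    apply Set.Subset.antisymm
    · intro x hx
      let C := irreducibleComponent x
      have hC : IsIrreducible C := isIrreducible_irreducibleComponent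
      have hCc : IsClosed C := isClosed_irreducibleComponent
      obtain ⟨η, hη⟩ := QuasiSober.sober hC hCc
      have hηx : η ⤳ x := hη.specializes mem_irreducibleComponent
      have hηD : η ∈ D := h2 _ _ hηx hx
      simp only [Set.mem_iUnion]
      refine ⟨C, ⟨irreducibleComponent_mem_irreducibleComponents x, fun y hy => ?_⟩,
        mem_irreducibleComponent⟩
      exact h1 _ _ (hη.specializes hy) hηD
    · simp only [Set.iUnion_subset_iff]
      exact fun C hC => hC.2
  rw [this]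
  exact Set.Finite.isClosed_biUnion (hfin.subset fun C hC => hC.1)
    fun C hC => isClosed_of_mem_irreducibleComponents C hC.1

/-- A subset of a locally Noetherian scheme stable under specialization and generization is closed. -/
theorem isClosed_of_stable {Y : Scheme.{u}} [IsLocallyNoetherian Y] (D : Set Y)
    (h1 : ∀ x y, x ⤳ y → x ∈ D → y ∈ D) (h2 : ∀ x y, x ⤳ y → y ∈ D → x ∈ D) : IsClosed D := by
  rw [← isOpen_compl_iff, isOpen_iff_mem_nhds]
  intro x hx
  obtain ⟨U, hU, hxU, -⟩ := exists_isAffineOpen_mem_and_subset (X := Y) (x := x) (U := ⊤) trivial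
  have hnoeth : IsNoetherianRing Γ(Y, U) := IsLocallyNoetherian.component_noetherian ⟨U, hU⟩
  have : TopologicalSpace.NoetherianSpace U := noetherianSpace_of_isAffineOpen U hU
  have hcl : IsClosed (Subtype.val ⁻¹' D : Set U) := by
    apply isClosed_noeth
    · intro a b hab ha
      exact h1 _ _ (hab.map continuous_subtype_val) ha
    · intro a b hab ha
      exact h2 _ _ (hab.map continuous_subtype_val) ha
  have ho : IsOpen (Subtype.val '' ((Subtype.val ⁻¹' D : Set U)ᶜ)) :=
    U.2.isOpenEmbedding_subtypeVal.isOpenMap _ hcl.isOpen_compl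
  refine Filter.mem_of_superset (ho.mem_nhds ⟨⟨x, hxU⟩, hx, rfl⟩) ?_
  rintro _ ⟨y, hy, rfl⟩
  exact hy

/-! ### The main theorem -/

section MainThm

variable {k : Type u} [Field k] [IsAlgClosed k] {X : Scheme.{u}} (f : X ⟶ Spec (.of k)) [IsSeparated f]
  [LocallyOfFiniteType f] (hFA : FA X) {n : ℕ} {H H' : Over (Spec (.of k))} {Z : HilbD.Obj f n H}
  {Z' : HilbD.Obj f (n + 1) H'}

include hFA in
theorem connected_succ (hZ : HilbD.IsUniversal f n H Z) (hZ' : HilbD.IsUniversal f (n + 1) H' Z')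
    [LocallyOfFiniteType H.hom] [LocallyOfFiniteType H'.hom] [ConnectedSpace (PicF.XT f H)]
    (hNV : NV f n) : ConnectedSpace H'.left := by
  have hfp : LocallyOfFinitePresentation f := LocallyOfFinitePresentation.iff_locallyOfFiniteType.2 inferInstance
  have hnoeth : IsLocallyNoetherian (PicF.XT f H) := by
    have h1 : LocallyOfFiniteType (PicF.XTproj f H) :=
      inferInstanceAs (LocallyOfFiniteType (pullback.snd f H.hom))
    exact LocallyOfFiniteType.isLocallyNoetherian (PicF.XTproj f H ≫ H.hom)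
  have hst : ∀ V : Set H'.left, IsClopen V → IsClosed (DD Z Z' V) := by
    intro V hV
    refine isClosed_of_stable _ (fun x y h hx => DD_specializes hFA hNV hZ' hV h hx) fun x y h hy => ?_
    rcases DD_union hFA hNV hZ' (Z := Z) V x with hx | hx
    · exact hx
    · exact (DD_disjoint hFA hZ' hV hy (DD_specializes hFA hNV hZ' hV.compl h hx)).elim
  have hcompl : ∀ V : Set H'.left, IsClopen V → DD Z Z' Vᶜ = (DD Z Z' V)ᶜ := by
    intro V hV
    ext b
    constructor
    · intro hb hb'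
      exact DD_disjoint hFA hZ' hV hb' hb
    · intro hb
      exact (DD_union hFA hNV hZ' (Z := Z) V b).resolve_left hb
  have hclopen : ∀ V : Set H'.left, IsClopen V → IsClopen (DD Z Z' V) := by
    intro V hV
    refine ⟨hst V hV, ?_⟩
    rw [← isClosed_compl_iff, ← hcompl V hV]
    exact hst _ hV.compl
  have hjac : JacobsonSpace H'.left := LocallyOfFiniteType.jacobsonSpace H'.hom
  -- if `DD V` is empty, so is `V`.
  have hempty : ∀ V : Set H'.left, IsClopen V → DD Z Z' V = ∅ → V = ∅ := by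
    intro V hV hD
    by_contra hne
    obtain ⟨x, hx⟩ := Set.nonempty_iff_ne_empty.2 hne
    obtain ⟨c, hcV, hc⟩ : (V ∩ closedPoints H'.left).Nonempty := by
      by_contra hcon
      have h1 := JacobsonSpace.closure_inter_closedPoints_eq_closure hV.isClosed.isLocallyClosed
      rw [Set.not_nonempty_iff_eq_empty.1 hcon, closure_empty, hV.isClosed.closure_eq] at h1
      exact hne h1.symm
    let h' := pointOfClosedPoint H'.hom c hc
    obtain ⟨β, hN⟩ := exists_NB_sub hFA (f := f) (Z' := Z') hZ h'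
    have : β (closedPoint k) ∈ DD Z Z' V := ⟨k, inferInstance, β, h', rfl, hN, by
      have := pointOfClosedPoint_apply H'.hom c hc (closedPoint k)
      rw [this]
      exact hcV⟩
    rw [hD] at this
    exact this
  have hne : Nonempty H'.left := by
    obtain ⟨b⟩ := (inferInstance : Nonempty (PicF.XT f H))
    rcases DD_union hFA hNV hZ' (Z := Z) Set.univ b with hb | hb
    · obtain ⟨K, _, β, h', -⟩ := hb
      exact ⟨h' (closedPoint K)⟩
    · obtain ⟨K, _, β, h', -⟩ := hb
      exact ⟨h' (closedPoint K)⟩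
  have hpre : PreconnectedSpace H'.left := by
    rw [preconnectedSpace_iff_clopen]
    intro V hV
    rcases isClopen_iff.1 (hclopen V hV) with h | h
    · exact Or.inl (hempty V hV h)
    · right
      have h2 : DD Z Z' Vᶜ = ∅ := by rw [hcompl V hV, h, Set.compl_univ]
      exact Set.compl_empty_iff.1 (hempty _ hV.compl h2)
  exact { toPreconnectedSpace := hpre, toNonempty := hne }

end MainThm

end K684.NestTop
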