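import Groth.Agent.HilbD.K327.RelHilb
import Groth.Agent.Picfga.HilbZero
import Groth.Agent.HilbD.K684.NestPush

/-!
# The relative Hilbert scheme of points of a family of closed subschemes with disjoint members
-/

set_option autoImplicit false
set_option backward.isDefEq.respectTransparency false
universe u

open CategoryTheory CategoryTheory.Limits AlgebraicGeometry

namespace K684.RelCurve

open Groth.Agent.Picfga.HilbPull Groth.Agent.Picfga.ClosedMap Groth.Agent.Picfga.SecGraph K327.BaseCh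

/-- Abstract form. -/
theorem abs {S X H B C H' Zs Zs' : Scheme.{u}} {g : X ⟶ S} {h : H ⟶ S} {b : B ⟶ S} [IsSeparated b]
    [LocallyOfFiniteType b] {j : C ⟶ X} [IsClosedImmersion j] {π : C ⟶ B} (hπj : π ≫ b = j ≫ g)
    {p : Zs ⟶ H} [IsFinite p] [Flat p] [Surjective p] {q : Zs ⟶ X} (hpH : p ≫ h = q ≫ g)
    {m : H' ⟶ H} {β : H' ⟶ B} {m' : H' ⟶ pullback h b} (e1 : m' ≫ pullback.fst h b = m)
    (e2 : m' ≫ pullback.snd h b = β) (hcl : IsClosedImmersion m')
    {p' : Zs' ⟶ H'} {a : Zs' ⟶ Zs} (hsq : IsPullback a p' p m) [Surjective p']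
    {c : Zs' ⟶ C} (ha' : a ≫ q = c ≫ j) (hc : c ≫ π = p' ≫ β) : IsClosedImmersion m := by
  -- monomorphism
  have hmono : Mono m := by
    refine ⟨fun {T} x y hxy => ?_⟩
    rw [← cancel_mono m']
    apply pullback.hom_ext
    · rw [Category.assoc, Category.assoc, e1, hxy]
    · rw [Category.assoc, Category.assoc, e2]
      obtain ⟨W, w1, w2, hw, hw1, hw2, hw3⟩ : ∃ (W : Scheme.{u}) (w1 : W ⟶ T) (w2 : W ⟶ Zs),
          w1 ≫ x ≫ m = w2 ≫ p ∧ Flat w1 ∧ Surjective w1 ∧ QuasiCompact w1 :=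
        ⟨pullback (x ≫ m) p, pullback.fst _ _, pullback.snd _ _, pullback.condition, inferInstance,
          inferInstance, inferInstance⟩
      have : Epi w1 := Flat.epi_of_flat_of_surjective w1
      have hwx : w2 ≫ p = (w1 ≫ x) ≫ m := by rw [← hw, Category.assoc]
      have hwy : w2 ≫ p = (w1 ≫ y) ≫ m := by rw [← hw, hxy, Category.assoc]
      have hcc : hsq.lift w2 (w1 ≫ x) hwx ≫ c = hsq.lift w2 (w1 ≫ y) hwy ≫ c := by
        rw [← cancel_mono j, Category.assoc, Category.assoc, ← ha', ← Category.assoc, ← Category.assoc,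
          hsq.lift_fst, hsq.lift_fst]
      rw [← cancel_epi w1, ← Category.assoc, ← Category.assoc]
      have h1 : w1 ≫ x = hsq.lift w2 (w1 ≫ x) hwx ≫ p' := (hsq.lift_snd _ _ _).symm
      have h2 : w1 ≫ y = hsq.lift w2 (w1 ≫ y) hwy ≫ p' := (hsq.lift_snd _ _ _).symm
      calc (w1 ≫ x) ≫ β = (hsq.lift w2 (w1 ≫ x) hwx ≫ p') ≫ β := by rw [← h1]
        _ = (hsq.lift w2 (w1 ≫ x) hwx ≫ c) ≫ π := by rw [Category.assoc, Category.assoc, hc]
        _ = (hsq.lift w2 (w1 ≫ y) hwy ≫ c) ≫ π := by rw [hcc]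
        _ = (hsq.lift w2 (w1 ≫ y) hwy ≫ p') ≫ β := by rw [Category.assoc, Category.assoc, hc]
        _ = _ := by rw [← h2]
  -- proper
  have hprop : IsProper m := by
    have hpm : a ≫ p = (p' ≫ m') ≫ pullback.fst h b := by
      rw [hsq.w, Category.assoc, e1]
    obtain ⟨z₀, hz1, hz2⟩ : ∃ z₀ : Zs' ⟶ pullback p (pullback.fst h b),
        z₀ ≫ pullback.fst _ _ = a ∧ z₀ ≫ pullback.snd _ _ = p' ≫ m' :=
      ⟨pullback.lift a (p' ≫ m') hpm, pullback.lift_fst _ _ _, pullback.lift_snd _ _ _⟩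
    have hz₀ : IsPullback z₀ p' (pullback.snd p (pullback.fst h b)) m' := by
      refine IsPullback.of_right (h₁₂ := pullback.fst p (pullback.fst h b))
        (h₂₂ := pullback.fst h b) (v₁₃ := p) ?_ hz2
        (IsPullback.of_hasPullback p (pullback.fst h b))
      rw [hz1, e1]
      exact hsq
    have hz₀c : IsClosedImmersion z₀ :=
      MorphismProperty.of_isPullback (P := @IsClosedImmersion) hz₀.flip hcl
    obtain ⟨z₁, hz11, hz12⟩ : ∃ z₁ : Zs' ⟶ pullback q j,
        z₁ ≫ pullback.fst _ _ = a ∧ z₁ ≫ pullback.snd _ _ = c :=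
      ⟨pullback.lift a c ha', pullback.lift_fst _ _ _, pullback.lift_snd _ _ _⟩
    obtain ⟨ζ₂, hζ1, hζ2⟩ : ∃ ζ₂ : pullback q j ⟶ pullback h b,
        ζ₂ ≫ pullback.fst _ _ = pullback.fst q j ≫ p ∧ ζ₂ ≫ pullback.snd _ _ = pullback.snd q j ≫ π :=
      ⟨pullback.lift (pullback.fst q j ≫ p) (pullback.snd q j ≫ π) (by
        rw [Category.assoc, hpH, Category.assoc, hπj, pullback.condition_assoc]),
        pullback.lift_fst _ _ _, pullback.lift_snd _ _ _⟩
    obtain ⟨ζ, hζ3, hζ4⟩ : ∃ ζ : pullback q j ⟶ pullback p (pullback.fst h b),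
        ζ ≫ pullback.fst _ _ = pullback.fst q j ∧ ζ ≫ pullback.snd _ _ = ζ₂ :=
      ⟨pullback.lift (pullback.fst q j) ζ₂ hζ1.symm, pullback.lift_fst _ _ _, pullback.lift_snd _ _ _⟩
    have hz : z₁ ≫ ζ = z₀ := by
      apply pullback.hom_ext
      · rw [Category.assoc, hζ3, hz11, hz1]
      · rw [Category.assoc, hζ4, hz2]
        apply pullback.hom_ext
        · rw [Category.assoc, hζ1, Category.assoc, e1, ← hsq.w, ← Category.assoc, hz11]
        · rw [Category.assoc, hζ2, Category.assoc, e2, ← hc, ← Category.assoc, hz12]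
    have hζ : IsSeparated ζ := by
      have : IsSeparated (ζ ≫ pullback.fst p (pullback.fst h b)) := by
        rw [hζ3]; infer_instance
      exact IsSeparated.of_comp ζ (pullback.fst p (pullback.fst h b))
    have hz₁ : IsClosedImmersion z₁ := by
      have : IsClosedImmersion (z₁ ≫ ζ) := by rw [hz]; exact hz₀c
      exact IsClosedImmersion.of_comp z₁ ζ
    have hfin' : IsFinite (p' ≫ m) := by
      have e4 : p' ≫ m = z₁ ≫ pullback.fst q j ≫ p := by
        rw [← hsq.w, ← Category.assoc, hz11]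
      rw [e4]
      infer_instance
    have huc : UniversallyClosed m := by
      have : UniversallyClosed (p' ≫ m) := inferInstance
      exact UniversallyClosed.of_comp_surjective p' m
    have hs : IsSeparated m := by rw [← e1]; infer_instance
    have hft : LocallyOfFiniteType m := by rw [← e1]; infer_instance
    exact { }
  exact (IsClosedImmersion.iff_isProper_and_mono m).mpr ⟨hprop, hmono⟩

variable {X S C : Scheme.{u}} {g : X ⟶ S} {V : Over S} {i : C ⟶ PicF.XT g V} [IsClosedImmersion i]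
  {d : ℕ}
  {H : Over S} {Z : HilbD.Obj g d H} {H' : Over V.left}
  {Z' : HilbD.Obj (i ≫ PicF.XTproj g V) d H'} {m : Over.mk (H'.hom ≫ V.hom) ⟶ H}
  {heq : (i ≫ PicF.XTproj g V) ≫ V.hom = (i ≫ pullback.fst g V.hom) ≫ g}

theorem map_eq : pullback.map (i ≫ PicF.XTproj g V) H'.hom g (H'.hom ≫ V.hom)
      (i ≫ pullback.fst g V.hom) (𝟙 H'.left) V.hom heq (Category.id_comp _).symm =
    jT i (PicF.XTproj g V) H' ≫ sg g V H' := by
  apply pullback.hom_ext
  · rw [Category.assoc]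
    erw [sg_fst]
    rw [jT_fst_assoc]
    simp [pullback.map]
  · change _ = _ ≫ PicF.XTproj g (ov V H')
    rw [Category.assoc, sg_snd, jT_snd]
    simp [pullback.map, PicF.XTproj]

variable (hm : HilbD.pull g m Z.1 =
    (Z'.1.subschemeι ≫ pullback.map (i ≫ PicF.XTproj g V) H'.hom g (H'.hom ≫ V.hom)
      (i ≫ pullback.fst g V.hom) (𝟙 H'.left) V.hom heq (Category.id_comp _).symm).ker)

include hm

theorem pull_eq_map : HilbD.pull g m Z.1 = (Z'.1.map (jT i (PicF.XTproj g V) H')).map (sg g V H') := by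
  rw [hm, map_eq, ← Scheme.IdealSheafData.map_comp]
  rfl

theorem pull_mkHV : HilbD.pull (PicF.XTproj g V) (mkHV V H H' m) (ZV g V H Z).1 =
    HilbD.push i (PicF.XTproj g V) H' Z'.1 := by
  change HilbD.pull (PicF.XTproj g V) _ ((HilbD.pull g (pr V H) Z.1).comap (sg g V _)) = _
  rw [pull_down, ← pull_comp, ovm_mkHV, pull_eq_map hm, comap_map]
  rfl

/-- `H' ⟶ H ×_S V` is a closed immersion. -/
theorem isClosedImmersion_mkHV (hZ : HilbD.IsUniversal g d H Z)
    (hZ' : HilbD.IsUniversal (i ≫ PicF.XTproj g V) d H' Z') :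
    IsClosedImmersion (mkHV V H H' m).left :=
  (Groth.Agent.S1168.result i (PicF.XTproj g V) d (HV V H) (ZV g V H Z)
    (isUniversal_ZV g V hZ)).2 H' Z' hZ' _ (pull_mkHV hm)

/-- The square of universal families. -/
theorem exists_square :
    ∃ a : Z'.1.subscheme ⟶ Z.1.subscheme,
      IsPullback a (Z'.1.subschemeι ≫ PicF.XTproj (i ≫ PicF.XTproj g V) H')
        (Z.1.subschemeι ≫ PicF.XTproj g H) m.left ∧
      a ≫ Z.1.subschemeι ≫ pullback.fst g H.hom =
        (Z'.1.subschemeι ≫ pullback.fst (i ≫ PicF.XTproj g V) H'.hom) ≫ (i ≫ pullback.fst g V.hom) := by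
  have hF : Z'.1.subschemeι ≫ pullback.map (i ≫ PicF.XTproj g V) H'.hom g (H'.hom ≫ V.hom)
      (i ≫ pullback.fst g V.hom) (𝟙 H'.left) V.hom heq (Category.id_comp _).symm =
      Z'.1.subschemeι ≫ jT i (PicF.XTproj g V) H' ≫ sg g V H' := by rw [map_eq]
  rw [hF] at hm
  set F := Z'.1.subschemeι ≫ jT i (PicF.XTproj g V) H' ≫ sg g V H' with hFdef
  have hcl : IsClosedImmersion F := by rw [hFdef]; infer_instance
  obtain ⟨e, he, he'⟩ := exists_iso_ker_subscheme F
  obtain ⟨m₁, hm₁⟩ : ∃ m₁ : F.ker.subscheme ⟶ Z.1.subscheme,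
      IsPullback m₁ F.ker.subschemeι Z.1.subschemeι (PicF.XTmap g m) := by
    rw [← hm]
    exact isPullback_pull g m Z.1
  have h1 : IsPullback (inv e ≫ m₁) F Z.1.subschemeι (PicF.XTmap g m) := by
    refine IsPullback.of_iso hm₁ (asIso e) (Iso.refl _) (Iso.refl _) (Iso.refl _) ?_ ?_ ?_ ?_
    · simp
    · simp [he']
    · simp
    · simp
  have hsnd : F ≫ PicF.XTproj g (ov V H') =
      Z'.1.subschemeι ≫ PicF.XTproj (i ≫ PicF.XTproj g V) H' := by
    rw [hFdef, Category.assoc, Category.assoc, sg_snd, jT_snd]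
  have hfst : F ≫ pullback.fst g (ov V H').hom =
      (Z'.1.subschemeι ≫ pullback.fst (i ≫ PicF.XTproj g V) H'.hom) ≫ (i ≫ pullback.fst g V.hom) := by
    rw [hFdef, Category.assoc, Category.assoc, sg_fst, jT_fst_assoc, Category.assoc]
  refine ⟨inv e ≫ m₁, ?_, ?_⟩
  · have h2 := h1.paste_vert (isPullback_XTmap g m)
    rw [hsnd] at h2
    exact h2
  · have h3 := h1.w
    rw [← Category.assoc, h3, Category.assoc, XTmap_fst]
    exact hfst

/-- The main result. -/
theorem main [IsSeparated V.hom] [LocallyOfFiniteType V.hom]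
    [hi : IsClosedImmersion (i ≫ pullback.fst g V.hom)] (hd : 1 ≤ d)
    (hZ : HilbD.IsUniversal g d H Z)
    (hZ' : HilbD.IsUniversal (i ≫ PicF.XTproj g V) d H' Z') : IsClosedImmersion m.left := by
  obtain ⟨a, hsq, ha⟩ := exists_square hm
  have hcl := isClosedImmersion_mkHV hm hZ hZ'
  have h1 : Surjective (Z'.1.subschemeι ≫ PicF.XTproj (i ≫ PicF.XTproj g V) H') :=
    Groth.Agent.Picfga.HilbZero.surjective_of_isFinLocFreeOfDeg _ hd Z'.2
  have h2 : Surjective (Z.1.subschemeι ≫ PicF.XTproj g H) :=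
    Groth.Agent.Picfga.HilbZero.surjective_of_isFinLocFreeOfDeg _ hd Z.2
  have h3 : IsFinite (Z.1.subschemeι ≫ PicF.XTproj g H) := Z.2.1.1
  have h4 : Flat (Z.1.subschemeι ≫ PicF.XTproj g H) := Z.2.1.2.1
  refine abs (g := g) (h := H.hom) (b := V.hom) (j := i ≫ pullback.fst g V.hom)
    (π := i ≫ PicF.XTproj g V) heq (q := Z.1.subschemeι ≫ pullback.fst g H.hom) ?_
    (m' := (mkHV V H H' m).left) (β := H'.hom)
    (pullback.lift_fst _ _ _) (pullback.lift_snd _ _ _) hcl hsq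
    (c := Z'.1.subschemeι ≫ pullback.fst (i ≫ PicF.XTproj g V) H'.hom) ha ?_
  · change (Z.1.subschemeι ≫ pullback.snd g H.hom) ≫ H.hom = _
    rw [Category.assoc, Category.assoc, pullback.condition]
  · change (Z'.1.subschemeι ≫ pullback.fst (i ≫ PicF.XTproj g V) H'.hom) ≫ (i ≫ PicF.XTproj g V) =
      (Z'.1.subschemeι ≫ pullback.snd (i ≫ PicF.XTproj g V) H'.hom) ≫ H'.hom
    rw [Category.assoc, pullback.condition, Category.assoc]

end K684.RelCurve
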