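import Groth.Agent.HilbD.K684.DivAlg

/-!
# A relative divisor on a smooth curve is fppf locally a sum of sections
-/

set_option autoImplicit false
open CategoryTheory CategoryTheory.Limits AlgebraicGeometry Groth.Agent
universe u

namespace K684.SumSec

variable {C S : Scheme.{u}} (f : C ⟶ S)

/-- graph of a morphism `τ : S' ⟶ C` over `S`. -/
noncomputable abbrev gr {S' : Scheme.{u}} (b : S' ⟶ S) (τ : S' ⟶ C) (h : τ ≫ f = b) : S' ⟶ pullback f b :=
  pullback.lift τ (𝟙 S') (by rw [h, Category.id_comp])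

theorem gr_snd {S' : Scheme.{u}} (b : S' ⟶ S) (τ : S' ⟶ C) (h : τ ≫ f = b) :
    gr f b τ h ≫ pullback.snd f b = 𝟙 S' := pullback.lift_snd _ _ _

theorem gr_fst {S' : Scheme.{u}} (b : S' ⟶ S) (τ : S' ⟶ C) (h : τ ≫ f = b) :
    gr f b τ h ≫ pullback.fst f b = τ := pullback.lift_fst _ _ _

instance isClosedImmersion_gr [IsSeparated f] {S' : Scheme.{u}} (b : S' ⟶ S) (τ : S' ⟶ C) (h : τ ≫ f = b) :
    IsClosedImmersion (gr f b τ h) := by
  have : IsClosedImmersion (gr f b τ h ≫ pullback.snd f b) := by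
    rw [gr_snd]; infer_instance
  exact IsClosedImmersion.of_comp _ (pullback.snd f b)

theorem isDiv_gr [IsSeparated f] {S' : Scheme.{u}} (b : S' ⟶ S) (τ : S' ⟶ C) (h : τ ≫ f = b) :
    HilbD.IsDivOfDeg (pullback.snd f b) 1 (gr f b τ h).ker := by
  obtain ⟨e, he, he'⟩ := Picfga.SecGraph.exists_iso_ker_subscheme (gr f b τ h)
  rw [HilbD.IsDivOfDeg, ← he', Category.assoc, gr_snd, Category.comp_id]
  refine ⟨⟨inferInstance, inferInstance, inferInstance⟩, fun y => ?_⟩
  rw [Scheme.Hom.finrank_eq_one_of_isIso]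
  rfl

/-- The closed subscheme of `I.comap g` is the fibre product. -/
theorem isPullback_comap {X X' : Scheme.{u}} (g : X' ⟶ X) (I : X.IdealSheafData) :
    ∃ m : (I.comap g).subscheme ⟶ I.subscheme, IsPullback m (I.comap g).subschemeι I.subschemeι g :=
  ⟨(I.comapIso _).hom ≫ pullback.snd _ _,
    (IsPullback.of_iso (IsPullback.of_hasPullback g I.subschemeι)
      (I.comapIso _).symm (Iso.refl _) (Iso.refl _) (Iso.refl _)
      (by simp) (by rw [Iso.refl_hom, Category.comp_id, Iso.symm_hom, Iso.inv_hom_id_assoc])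
      (by simp) (by simp)).flip⟩

/-- Base change of a relative divisor. -/
theorem isDiv_comap {d : ℕ} {I : C.IdealSheafData} (hI : HilbD.IsDivOfDeg f d I) {C' S' : Scheme.{u}}
    {g' : C' ⟶ C} {f' : C' ⟶ S'} {g : S' ⟶ S} (h : IsPullback g' f' f g) :
    HilbD.IsDivOfDeg f' d (I.comap g') := by
  obtain ⟨m, hm⟩ := isPullback_comap g' I
  exact Picfga.HilbPull.isFinLocFreeOfDeg_of_isPullback (hm.paste_vert h) hI

/-- Base change of the graph of a morphism to `C`. -/
theorem ker_gr_comap [IsSeparated f] {S₁ S' : Scheme.{u}} (b₁ : S₁ ⟶ S) (b' : S' ⟶ S₁) (τ : S₁ ⟶ C)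
    (h : τ ≫ f = b₁) (h' : (b' ≫ τ) ≫ f = b' ≫ b₁) (m : pullback f (b' ≫ b₁) ⟶ pullback f b₁)
    (hm1 : m ≫ pullback.fst f b₁ = pullback.fst f (b' ≫ b₁))
    (hm2 : m ≫ pullback.snd f b₁ = pullback.snd f (b' ≫ b₁) ≫ b') :
    (gr f b₁ τ h).ker.comap m = (gr f (b' ≫ b₁) (b' ≫ τ) h').ker := by
  have hcart : IsPullback m (pullback.snd f (b' ≫ b₁)) (pullback.snd f b₁) b' := by
    refine IsPullback.of_right (h₁₂ := pullback.fst f b₁) (h₂₂ := b₁) (v₁₃ := f) ?_ hm2
      (IsPullback.of_hasPullback f b₁)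
    rw [hm1]
    exact IsPullback.of_hasPullback f (b' ≫ b₁)
  have hsq : gr f (b' ≫ b₁) (b' ≫ τ) h' ≫ m = b' ≫ gr f b₁ τ h := by
    apply pullback.hom_ext
    · rw [Category.assoc, hm1, gr_fst, Category.assoc, gr_fst]
    · rw [Category.assoc, hm2, ← Category.assoc, gr_snd, Category.id_comp, Category.assoc, gr_snd,
        Category.comp_id]
  have hpb : IsPullback b' (gr f (b' ≫ b₁) (b' ≫ τ) h') (gr f b₁ τ h) m := by
    refine IsPullback.of_bot (v₂₁ := pullback.snd f (b' ≫ b₁)) (v₂₂ := pullback.snd f b₁) (h₃₁ := b') ?_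
      hsq.symm hcart
    rw [gr_snd, gr_snd]
    exact IsPullback.of_vert_isIso ⟨by simp⟩
  exact (Picfga.SecGraph.ker_eq_comap_of_isPullback hpb).symm

/-- Transitivity of graphs. -/
theorem ker_gr_trans [IsSeparated f] {S₁ S' : Scheme.{u}} (b₁ : S₁ ⟶ S) (b' : S' ⟶ S₁)
    (τ' : S' ⟶ pullback f b₁) (h : τ' ≫ pullback.snd f b₁ = b')
    (h' : (τ' ≫ pullback.fst f b₁) ≫ f = b' ≫ b₁)
    (m : pullback f (b' ≫ b₁) ⟶ pullback (pullback.snd f b₁) b')
    (hm1 : m ≫ pullback.fst _ _ ≫ pullback.fst f b₁ = pullback.fst f (b' ≫ b₁))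
    (hm2 : m ≫ pullback.snd _ _ = pullback.snd f (b' ≫ b₁)) [IsIso m] :
    (gr (pullback.snd f b₁) b' τ' h).ker.comap m = (gr f (b' ≫ b₁) (τ' ≫ pullback.fst f b₁) h').ker := by
  have hsq : gr f (b' ≫ b₁) (τ' ≫ pullback.fst f b₁) h' ≫ m = gr (pullback.snd f b₁) b' τ' h := by
    apply pullback.hom_ext
    · apply pullback.hom_ext
      · rw [Category.assoc, Category.assoc, hm1, gr_fst, gr_fst]
      · rw [Category.assoc, Category.assoc, pullback.condition, ← Category.assoc m, hm2, ← Category.assoc,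
          gr_snd, Category.id_comp, gr_fst, h]
    · rw [Category.assoc, hm2, gr_snd, gr_snd]
  have hpb : IsPullback (𝟙 S') (gr f (b' ≫ b₁) (τ' ≫ pullback.fst f b₁) h')
      (gr (pullback.snd f b₁) b' τ' h) m :=
    IsPullback.of_horiz_isIso ⟨by rw [Category.id_comp]; exact hsq.symm⟩
  exact (Picfga.SecGraph.ker_eq_comap_of_isPullback hpb).symm

theorem comap_prod {X Y : Scheme.{u}} (g : X ⟶ Y) {n : ℕ} (I : Fin n → Y.IdealSheafData) :
    (∏ i, I i).comap g = ∏ i, (I i).comap g := by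
  induction n with
  | zero =>
    rw [Finset.univ_eq_empty, Finset.prod_empty, Finset.prod_empty]
    exact Scheme.IdealSheafData.comap_top _
  | succ n ih =>
    rw [Fin.prod_univ_succ, Fin.prod_univ_succ, Groth.Agent.Divis.IdealComap.comap_mul, ih]

theorem step [IsSeparated f] {S₁ S' : Scheme.{u}} (b₁ : S₁ ⟶ S) (b' : S' ⟶ S₁)
    (τ₀ : S₁ ⟶ C) (h : τ₀ ≫ f = b₁) {d : ℕ} (I : C.IdealSheafData) (I' : (pullback f b₁).IdealSheafData)
    (hI : I.comap (pullback.fst f b₁) = (gr f b₁ τ₀ h).ker * I')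
    (τ' : Fin d → (S' ⟶ pullback f b₁)) (hτ' : ∀ i, τ' i ≫ pullback.snd f b₁ = b')
    (hprod : I'.comap (pullback.fst (pullback.snd f b₁) b') = ∏ i, (gr (pullback.snd f b₁) b' (τ' i) (hτ' i)).ker)
    (h0 : (b' ≫ τ₀) ≫ f = b' ≫ b₁) (h1 : ∀ i, (τ' i ≫ pullback.fst f b₁) ≫ f = b' ≫ b₁) :
    I.comap (pullback.fst f (b' ≫ b₁)) = (gr f (b' ≫ b₁) (b' ≫ τ₀) h0).ker *
      ∏ i, (gr f (b' ≫ b₁) (τ' i ≫ pullback.fst f b₁) (h1 i)).ker := by
  have hm1 : (pullbackLeftPullbackSndIso f b₁ b').inv ≫ pullback.fst _ _ ≫ pullback.fst f b₁ =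
      pullback.fst f (b' ≫ b₁) := pullbackLeftPullbackSndIso_inv_fst f b₁ b'
  have hm2 : (pullbackLeftPullbackSndIso f b₁ b').inv ≫ pullback.snd _ _ = pullback.snd f (b' ≫ b₁) :=
    pullbackLeftPullbackSndIso_inv_snd_snd f b₁ b'
  generalize (pullbackLeftPullbackSndIso f b₁ b').inv = m at hm1 hm2
  have hm : IsIso m := by
    have : m = (pullbackLeftPullbackSndIso f b₁ b').inv := by
      apply pullback.hom_ext
      · apply pullback.hom_ext
        · rw [Category.assoc, hm1, Category.assoc, pullbackLeftPullbackSndIso_inv_fst]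
        · rw [Category.assoc, Category.assoc, pullback.condition, ← Category.assoc m, hm2,
            ← Category.assoc _ _ b', pullbackLeftPullbackSndIso_inv_snd_snd]
      · rw [hm2, pullbackLeftPullbackSndIso_inv_snd_snd]
    rw [this]
    infer_instance
  have key1 : (gr f b₁ τ₀ h).ker.comap (m ≫ pullback.fst (pullback.snd f b₁) b') =
      (gr f (b' ≫ b₁) (b' ≫ τ₀) h0).ker := by
    refine ker_gr_comap f b₁ b' τ₀ h h0 (m ≫ pullback.fst (pullback.snd f b₁) b') (by rw [Category.assoc, hm1]) ?_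
    rw [Category.assoc, pullback.condition, ← Category.assoc, hm2]
  have key2 : I'.comap (m ≫ pullback.fst (pullback.snd f b₁) b') =
      ∏ i, (gr f (b' ≫ b₁) (τ' i ≫ pullback.fst f b₁) (h1 i)).ker := by
    rw [Scheme.IdealSheafData.comap_comp, hprod, comap_prod]
    refine Finset.prod_congr rfl fun i _ => ?_
    exact ker_gr_trans f b₁ b' (τ' i) (hτ' i) (h1 i) m hm1 hm2
  rw [← hm1, ← Category.assoc, Scheme.IdealSheafData.comap_comp, hI, Groth.Agent.Divis.IdealComap.comap_mul,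
    key1, key2]

theorem exists_sum (d : ℕ) : ∀ {C S : Scheme.{u}} (f : C ⟶ S) [SmoothOfRelativeDimension 1 f] [IsSeparated f]
    (I : C.IdealSheafData) (_ : HilbD.IsDivOfDeg f d I),
    ∃ (S' : Scheme.{u}) (b : S' ⟶ S), Flat b ∧ Surjective b ∧ LocallyOfFinitePresentation b ∧
      ∃ (τ : Fin d → (S' ⟶ C)) (hτ : ∀ i, τ i ≫ f = b),
        I.comap (pullback.fst f b) = ∏ i, (gr f b (τ i) (hτ i)).ker := by
  induction d with
  | zero =>
    intro C S f _ _ I hI
    refine ⟨S, 𝟙 S, inferInstance, inferInstance, inferInstance, Fin.elim0, fun i => Fin.elim0 i, ?_⟩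
    rw [DivAlg.eq_one_of_zero f hI, Finset.univ_eq_empty, Finset.prod_empty]
    exact Scheme.IdealSheafData.comap_top _
  | succ d ih =>
    intro C S f _ _ I hI
    obtain ⟨b₁, hb₁⟩ : ∃ b₁, b₁ = I.subschemeι ≫ f := ⟨_, rfl⟩
    obtain ⟨hfin, hflat, hfp⟩ := hI.1
    have hdeg := hI.2
    rw [← hb₁] at hfin hflat hfp hdeg
    have hsurj : Surjective b₁ := by
      rw [← Scheme.Hom.one_le_finrank_iff_surjective]
      intro y
      rw [hdeg y]
      exact Nat.le_add_left 1 d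
    have hf₁ : SmoothOfRelativeDimension 1 (pullback.snd f b₁) :=
      (smoothOfRelativeDimension_isStableUnderBaseChange (n := 1)).of_isPullback
        (IsPullback.of_hasPullback f b₁) inferInstance
    have hs : HilbD.IsDivOfDeg (pullback.snd f b₁) 1 (gr f b₁ I.subschemeι hb₁.symm).ker :=
      isDiv_gr f b₁ _ _
    have hI₁ : HilbD.IsDivOfDeg (pullback.snd f b₁) (d + 1) (I.comap (pullback.fst f b₁)) :=
      isDiv_comap f hI (IsPullback.of_hasPullback f b₁)
    have hle : I.comap (pullback.fst f b₁) ≤ (gr f b₁ I.subschemeι hb₁.symm).ker := by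
      rw [Picfga.SecGraph.le_ker_iff, ← Scheme.IdealSheafData.comap_comp, gr_fst,
        ← Picfga.SecGraph.le_ker_iff, Scheme.IdealSheafData.ker_subschemeι]
    obtain ⟨I', hI', hmul⟩ := DivAlg.exists_mul (pullback.snd f b₁) hs hI₁ hle
    rw [Nat.add_sub_cancel] at hI'
    obtain ⟨S', b', hb1, hb2, hb3, τ', hτ', hprod⟩ := ih (pullback.snd f b₁) I' hI'
    have h0 : (b' ≫ I.subschemeι) ≫ f = b' ≫ b₁ := by rw [Category.assoc, hb₁]
    have h1 : ∀ i, (τ' i ≫ pullback.fst f b₁) ≫ f = b' ≫ b₁ := by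
      intro i
      rw [Category.assoc, pullback.condition, ← Category.assoc, hτ' i]
    refine ⟨S', b' ≫ b₁, inferInstance, inferInstance, inferInstance,
      Fin.cons (b' ≫ I.subschemeι) fun i => τ' i ≫ pullback.fst f b₁, fun i => ?_, ?_⟩
    · exact Fin.cases h0 (fun i => h1 i) i
    · rw [step f b₁ b' I.subschemeι hb₁.symm I I' hmul τ' hτ' hprod h0 h1, Fin.prod_univ_succ]
      rfl

end K684.SumSec
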